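import Mathlib

/-!
# S3360 (N): the arithmetic endgames
-/

set_option autoImplicit false
set_option linter.unusedVariables false

namespace Cfsg.Agent.S3360L

/-- **(N1)** -/
theorem arith_n2 (q : ℕ) (hq : q.Prime) (hq2 : q ≠ 2) (h : (q + 1) ∣ 24) :
    q ^ 2 ∈ ({9, 25, 49, 121, 529, 81} : Set ℕ) := by
  have hle : q + 1 ≤ 24 := Nat.le_of_dvd (by norm_num) h
  have hq24 : q ≤ 23 := by omega
  have h2 := hq.two_le
  simp only [Set.mem_insert_iff, Set.mem_singleton_iff]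
  interval_cases q <;> omega

theorem three_pow_gt (k : ℕ) (hk : 3 ≤ k) : 4 * k + 1 < 3 ^ k := by
  induction k, hk using Nat.le_induction with
  | base => norm_num
  | succ k hk ih =>
    rw [pow_succ]
    omega

/-- **(N2)** -/
theorem arith_fermat (q d r : ℕ) (hq : q.Prime) (hq2 : q ≠ 2) (hd : 2 ≤ d) (hr : r = 2 ^ d + 1)
    (hrp : r.Prime)
    (hppd : ∀ p : ℕ, p.Prime → p ∣ q ^ (2 ^ d) - 1 →
      (∀ j, 0 < j → j < 2 ^ d → ¬ p ∣ q ^ j - 1) → p = r)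
    (hr2 : ¬ r ^ 2 ∣ q ^ (2 ^ d) - 1) : q = 3 ∧ d = 2 := by
  obtain ⟨e, rfl⟩ : ∃ e, d = e + 2 := ⟨d - 2, by omega⟩
  obtain ⟨h, hh⟩ : ∃ h, h = 2 ^ (e + 1) := ⟨_, rfl⟩
  have h2d : 2 ^ (e + 2) = 2 * h := by rw [hh]; ring
  have hh2e : h = 2 * 2 ^ e := by rw [hh]; ring
  have hhge : 2 ≤ h := by
    have : 1 ≤ 2 ^ e := Nat.one_le_two_pow
    omega
  have hq3 : 3 ≤ q := by
    have := hq.two_le
    omega
  have hqodd : q % 2 = 1 := (hq.eq_two_or_odd).resolve_left hq2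
  have hq4 : q ^ 2 % 4 = 1 := by
    have h1 : q % 4 = 1 ∨ q % 4 = 3 := by omega
    rcases h1 with h1 | h1 <;> simp [Nat.pow_mod, h1]
  have hqh4 : q ^ h % 4 = 1 := by
    rw [hh2e, pow_mul, Nat.pow_mod, hq4]
    simp
  have hqh1 : 1 ≤ q ^ h := Nat.one_le_pow _ _ (by omega)
  obtain ⟨t, ht⟩ : ∃ t, q ^ h + 1 = 2 * (2 * t + 1) := ⟨q ^ h / 4, by omega⟩
  obtain ⟨N, hN⟩ : ∃ N, N = 2 * t + 1 := ⟨_, rfl⟩
  rw [← hN] at ht
  have hfac : q ^ (2 ^ (e + 2)) - 1 = (q ^ h - 1) * (q ^ h + 1) := by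
    rw [h2d, mul_comm 2 h, pow_mul]
    obtain ⟨c, hc⟩ : ∃ c, q ^ h = c + 1 := ⟨q ^ h - 1, by omega⟩
    rw [hc]
    have : (c + 1) ^ 2 = c * (c + 1 + 1) + 1 := by ring
    rw [this]
    simp
  have hprime : ∀ {p : ℕ}, p.Prime → p ∣ N → p = r := by
    intro p hp hpN
    have hpodd : p ≠ 2 := by
      intro h2
      subst h2
      omega
    have hp1 : p ∣ q ^ h + 1 := by
      rw [ht]
      exact Dvd.dvd.mul_left hpN 2
    have hp2 : p ∣ q ^ (2 ^ (e + 2)) - 1 := by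
      rw [hfac]
      exact Dvd.dvd.mul_left hp1 _
    apply hppd p hp hp2
    intro j hj0 hjlt hpj
    have hg : p ∣ q ^ (Nat.gcd j (2 ^ (e + 2))) - 1 := by
      rw [← Nat.pow_sub_one_gcd_pow_sub_one]
      exact Nat.dvd_gcd hpj hp2
    obtain ⟨i, hi, hgi⟩ :=
      (Nat.dvd_prime_pow Nat.prime_two).mp (Nat.gcd_dvd_right j (2 ^ (e + 2)))
    have hi' : i ≤ e + 1 := by
      by_contra hcon
      have hie : i = e + 2 := by omega
      have h3 : 2 ^ (e + 2) ∣ j := by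
        rw [← hie, ← hgi]
        exact Nat.gcd_dvd_left _ _
      have := Nat.le_of_dvd hj0 h3
      omega
    have hdvd : q ^ (2 ^ i) - 1 ∣ q ^ h - 1 := by
      obtain ⟨c, hc⟩ : 2 ^ i ∣ h := by
        rw [hh]
        exact pow_dvd_pow 2 hi'
      rw [hc, pow_mul]
      have := Nat.sub_dvd_pow_sub_pow (q ^ 2 ^ i) 1 c
      rwa [one_pow] at this
    rw [hgi] at hg
    have hp3 : p ∣ q ^ h - 1 := hg.trans hdvd
    have hp4 : p ∣ 2 := by
      have h5 : (q ^ h + 1) - (q ^ h - 1) = 2 := by omega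
      rw [← h5]
      exact Nat.dvd_sub hp1 hp3
    exact hpodd ((Nat.prime_dvd_prime_iff_eq hp Nat.prime_two).mp hp4)
  have hN0 : N ≠ 0 := by omega
  have hNpow := Nat.eq_prime_pow_of_unique_prime_dvd hN0 hprime
  obtain ⟨a, ha⟩ : ∃ a, a = N.primeFactorsList.length := ⟨_, rfl⟩
  rw [← ha] at hNpow
  have hNdvd : N ∣ q ^ (2 ^ (e + 2)) - 1 := by
    rw [hfac, ht]
    exact Dvd.dvd.mul_left (Dvd.intro_left 2 rfl) _
  have ha1 : a ≤ 1 := by
    by_contra hcon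
    apply hr2
    have h1 : r ^ 2 ∣ r ^ a := pow_dvd_pow r (by omega)
    rw [← hNpow] at h1
    exact h1.trans hNdvd
  have h9 : 9 ≤ q ^ h := by
    calc 9 = 3 ^ 2 := by norm_num
      _ ≤ q ^ 2 := Nat.pow_le_pow_left hq3 2
      _ ≤ q ^ h := Nat.pow_le_pow_right (by omega) hhge
  have hN1 : 1 < N := by omega
  have ha' : a = 1 := by
    rcases Nat.le_one_iff_eq_zero_or_eq_one.mp ha1 with h0 | h1
    · rw [h0, pow_zero] at hNpow
      omega
    · exact h1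
  have hNr : N = r := by rw [hNpow, ha', pow_one]
  have hqh : q ^ h = 4 * h + 1 := by
    have h1 : q ^ h + 1 = 2 * (2 ^ (e + 2) + 1) := by rw [ht, hNr, hr]
    rw [h2d] at h1
    omega
  have hh2 : h = 2 := by
    by_contra hne
    have h3 : 3 ≤ h := by omega
    have h4 := three_pow_gt h h3
    have h5 : 3 ^ h ≤ q ^ h := Nat.pow_le_pow_left hq3 h
    omega
  have he : e = 0 := by
    have h1 : 2 ^ (e + 1) = 2 ^ 1 := by rw [← hh, hh2, pow_one]
    have h2 := Nat.pow_right_injective (le_refl 2) h1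
    omega
  subst he
  refine ⟨?_, rfl⟩
  rw [hh2] at hqh
  have h1 : q ^ 2 = 3 ^ 2 := by omega
  exact Nat.pow_left_injective (by norm_num : 2 ≠ 0) h1

end Cfsg.Agent.S3360L
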