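import Mathlib

/-!
# S3360 (C3): `A` central with at most one involution, `B/A` elementary abelian 2-group,
`Z(B) = A`, `C_G(B) ≤ A`.  Then every `g` with `[g, B] ≤ A` lies in `B`.
-/

set_option autoImplicit false
set_option linter.unusedSectionVars false
set_option linter.unusedVariables false
set_option linter.style.haveILetI false

namespace Cfsg.Agent.S3360L

universe u

variable {G : Type u} [Group G]

/-- the commutator written as a plain product -/
def cm (g b : G) : G := g * b * g⁻¹ * b⁻¹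

theorem cm_eq_one_iff (g b : G) : cm g b = 1 ↔ g * b = b * g := by
  unfold cm
  constructor
  · intro h
    have h1 : g * b = (g * b * g⁻¹ * b⁻¹) * (b * g) := by group
    rw [h1, h, one_mul]
  · intro h
    have h1 : g * b * g⁻¹ * b⁻¹ = (g * b) * (b * g)⁻¹ := by group
    rw [h1, h, mul_inv_cancel]

theorem cm_self (g : G) : cm g g = 1 := (cm_eq_one_iff g g).mpr rfl

theorem cm_one_left (b : G) : cm 1 b = 1 := (cm_eq_one_iff 1 b).mpr (by rw [one_mul, mul_one])

theorem cm_swap (g b : G) : cm b g = (cm g b)⁻¹ := by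
  unfold cm
  group

section central

variable (A : Subgroup G) (hAz : ∀ a ∈ A, ∀ g : G, g * a = a * g)
include hAz

theorem conj_central (a : G) (ha : a ∈ A) (g : G) : g * a * g⁻¹ = a := by
  rw [hAz a ha g, mul_assoc, mul_inv_cancel, mul_one]

theorem cm_mul_right (h b c : G) (hc : cm h c ∈ A) : cm h (b * c) = cm h b * cm h c := by
  have e : cm h (b * c) = cm h b * (b * cm h c * b⁻¹) := by
    unfold cm
    group
  rw [e, conj_central A hAz _ hc]

theorem cm_mul_left (g h c : G) (hc : cm h c ∈ A) : cm (g * h) c = cm h c * cm g c := by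
  have e : cm (g * h) c = (g * cm h c * g⁻¹) * cm g c := by
    unfold cm
    group
  rw [e, conj_central A hAz _ hc]

theorem cm_central_right (h a : G) (ha : a ∈ A) : cm h a = 1 :=
  (cm_eq_one_iff h a).mpr (hAz a ha h)

theorem cm_sq (h x : G) (hx : x ^ 2 ∈ A) (hh : cm h x ∈ A) : cm h x * cm h x = 1 := by
  rw [← cm_mul_right A hAz h x x hh, ← pow_two]
  exact cm_central_right A hAz h _ hx

end central

/-- the inductive core: `g` can be corrected by an element of `B` to centralise `B` -/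
theorem exists_centralizing [Finite G] (A : Subgroup G)
    (hAz : ∀ a ∈ A, ∀ g : G, g * a = a * g)
    (hΩ : ∀ a ∈ A, ∀ b ∈ A, a ^ 2 = 1 → b ^ 2 = 1 → a ≠ 1 → b ≠ 1 → a = b) :
    ∀ (n : ℕ) (B : Subgroup G), Nat.card B ≤ n → A ≤ B → (∀ b ∈ B, b ^ 2 ∈ A) →
      (∀ b ∈ B, ∀ c ∈ B, cm b c ∈ A) → (∀ b ∈ B, (∀ c ∈ B, b * c = c * b) → b ∈ A) →
      ∀ g : G, (∀ b ∈ B, cm g b ∈ A) → ∃ b ∈ B, ∀ c ∈ B, (g * b) * c = c * (g * b) := by
  intro n
  induction n with
  | zero =>
    intro B hn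
    exfalso
    have : 0 < Nat.card B := Nat.card_pos
    omega
  | succ n ih =>
    intro B hn hAB hBs hBc hBz g hg
    by_cases hBA : B ≤ A
    · refine ⟨1, B.one_mem, ?_⟩
      intro c hc
      rw [mul_one]
      exact hAz c (hBA hc) g
    -- pick a non-commuting pair
    obtain ⟨x, hxB, hxA⟩ := SetLike.not_le_iff_exists.mp hBA
    have hxy : ∃ y ∈ B, x * y ≠ y * x := by
      by_contra hcon
      apply hxA
      apply hBz x hxB
      intro c hc
      by_contra hne
      exact hcon ⟨c, hc, hne⟩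
    obtain ⟨y, hyB, hxyne⟩ := hxy
    set z := cm x y with hz
    have hzA : z ∈ A := hBc x hxB y hyB
    have hz1 : z ≠ 1 := fun h => hxyne ((cm_eq_one_iff x y).mp h)
    have hzz : z * z = 1 := cm_sq A hAz x y (hBs y hyB) hzA
    have hz2 : z ^ 2 = 1 := by rw [pow_two]; exact hzz
    have hzinv : z⁻¹ = z := inv_eq_of_mul_eq_one_right hzz
    have hyx : cm y x = z := by rw [cm_swap, ← hz, hzinv]
    -- values of commutators with `x`, `y`
    have hval : ∀ h w : G, w ^ 2 ∈ A → cm h w ∈ A → cm h w = 1 ∨ cm h w = z := by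
      intro h w hw hh
      by_cases h1 : cm h w = 1
      · exact Or.inl h1
      · right
        have h2 : cm h w ^ 2 = 1 := by rw [pow_two]; exact cm_sq A hAz h w hw hh
        exact hΩ _ hh _ hzA h2 hz2 h1 hz1
    -- the adjusting lemma
    have hadj : ∀ h : G, (∀ b ∈ B, cm h b ∈ A) → ∃ b₀ ∈ B, (h * b₀) * x = x * (h * b₀) ∧
        (h * b₀) * y = y * (h * b₀) ∧
        (∀ c : G, c * x = x * c → c * y = y * c → c * b₀ = b₀ * c) := by
      intro h hh
      -- stage 1
      have hst1 : ∃ b₁ ∈ B, cm (h * b₁) x = 1 ∧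
          (∀ c : G, c * x = x * c → c * y = y * c → c * b₁ = b₁ * c) := by
        rcases hval h x (hBs x hxB) (hh x hxB) with h1 | h1
        · refine ⟨1, B.one_mem, ?_, ?_⟩
          · rw [mul_one]; exact h1
          · intro c _ _
            rw [mul_one, one_mul]
        · refine ⟨y, hyB, ?_, ?_⟩
          · rw [cm_mul_left A hAz h y x (hBc y hyB x hxB), hyx, h1, hzz]
          · intro c _ hcy
            exact hcy
      obtain ⟨b₁, hb₁B, hb₁x, hb₁c⟩ := hst1
      have hh' : ∀ b ∈ B, cm (h * b₁) b ∈ A := by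
        intro b hb
        rw [cm_mul_left A hAz h b₁ b (hBc b₁ hb₁B b hb)]
        exact A.mul_mem (hBc b₁ hb₁B b hb) (hh b hb)
      have hst2 : ∃ b₂ ∈ B, cm (h * b₁ * b₂) y = 1 ∧ cm (h * b₁ * b₂) x = 1 ∧
          (∀ c : G, c * x = x * c → c * y = y * c → c * b₂ = b₂ * c) := by
        rcases hval (h * b₁) y (hBs y hyB) (hh' y hyB) with h1 | h1
        · refine ⟨1, B.one_mem, ?_, ?_, ?_⟩
          · rw [mul_one]; exact h1
          · rw [mul_one]; exact hb₁x
          · intro c _ _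
            rw [mul_one, one_mul]
        · refine ⟨x, hxB, ?_, ?_, ?_⟩
          · rw [cm_mul_left A hAz (h * b₁) x y (hBc x hxB y hyB), ← hz, h1, hzz]
          · rw [cm_mul_left A hAz (h * b₁) x x (hBc x hxB x hxB), cm_self, one_mul, hb₁x]
          · intro c hcx _
            exact hcx
      obtain ⟨b₂, hb₂B, hb₂y, hb₂x, hb₂c⟩ := hst2
      refine ⟨b₁ * b₂, B.mul_mem hb₁B hb₂B, ?_, ?_, ?_⟩
      · rw [← mul_assoc]
        exact (cm_eq_one_iff _ _).mp hb₂x
      · rw [← mul_assoc]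
        exact (cm_eq_one_iff _ _).mp hb₂y
      · intro c hcx hcy
        rw [← mul_assoc, hb₁c c hcx hcy, mul_assoc, hb₂c c hcx hcy, mul_assoc]
    -- the smaller group
    let B₁ : Subgroup G := B ⊓ Subgroup.centralizer ({x, y} : Set G)
    have hB₁mem : ∀ b, b ∈ B₁ ↔ b ∈ B ∧ b * x = x * b ∧ b * y = y * b := by
      intro b
      show b ∈ B ⊓ Subgroup.centralizer ({x, y} : Set G) ↔ _
      rw [Subgroup.mem_inf, Subgroup.mem_centralizer_iff]
      constructor
      · rintro ⟨hb, hc⟩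
        exact ⟨hb, (hc x (by simp)).symm, (hc y (by simp)).symm⟩
      · rintro ⟨hb, hbx, hby⟩
        refine ⟨hb, ?_⟩
        intro w hw
        rcases hw with rfl | rfl
        · exact hbx.symm
        · exact hby.symm
    have hB₁B : B₁ ≤ B := inf_le_left
    have hxB₁ : x ∉ B₁ := by
      intro h
      exact hxyne ((hB₁mem x).mp h).2.2
    have hcard : Nat.card B₁ < Nat.card B := by
      have hss : (B₁ : Set G) ⊂ (B : Set G) := by
        refine ⟨hB₁B, ?_⟩
        intro hle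
        exact hxB₁ (hle hxB)
      have := Set.ncard_lt_ncard hss (Set.toFinite _)
      exact this
    have hAB₁ : A ≤ B₁ := by
      intro a ha
      rw [hB₁mem]
      exact ⟨hAB ha, (hAz a ha x).symm, (hAz a ha y).symm⟩
    -- every element of `B` is an element of `B₁` times a word in `x`, `y`
    have hdec : ∀ b ∈ B, ∃ b₀ ∈ B, b * b₀ ∈ B₁ ∧
        (∀ c : G, c * x = x * c → c * y = y * c → c * b₀ = b₀ * c) := by
      intro b hb
      obtain ⟨b₀, hb₀B, h1, h2, h3⟩ := hadj b (fun c hc => hBc b hb c hc)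
      exact ⟨b₀, hb₀B, (hB₁mem _).mpr ⟨B.mul_mem hb hb₀B, h1, h2⟩, h3⟩
    -- a general principle: commuting with `B₁`, `x`, `y` implies commuting with `B`
    have hcomm_all : ∀ w : G, (∀ d ∈ B₁, w * d = d * w) → w * x = x * w → w * y = y * w →
        ∀ c ∈ B, w * c = c * w := by
      intro w hw hwx hwy c hc
      obtain ⟨b₀, hb₀B, hcb, hb₀c⟩ := hdec c hc
      have h1 := hw _ hcb
      have h2 := hb₀c w hwx hwy
      -- w * (c * b₀) = (c * b₀) * w and w * b₀ = b₀ * w
      have h3 : w * c * b₀ = c * w * b₀ := by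
        calc w * c * b₀ = w * (c * b₀) := by rw [mul_assoc]
          _ = c * b₀ * w := h1
          _ = c * (b₀ * w) := by rw [mul_assoc]
          _ = c * (w * b₀) := by rw [h2]
          _ = c * w * b₀ := by rw [mul_assoc]
      exact mul_right_cancel h3
    have hB₁z : ∀ b ∈ B₁, (∀ c ∈ B₁, b * c = c * b) → b ∈ A := by
      intro b hb hbc
      have hb' := (hB₁mem b).mp hb
      exact hBz b hb'.1 (hcomm_all b hbc hb'.2.1 hb'.2.2)
    obtain ⟨b₀, hb₀B, hgx, hgy, hb₀c⟩ := hadj g hg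
    have hg' : ∀ b ∈ B₁, cm (g * b₀) b ∈ A := by
      intro b hb
      rw [cm_mul_left A hAz g b₀ b (hBc b₀ hb₀B b (hB₁B hb))]
      exact A.mul_mem (hBc b₀ hb₀B b (hB₁B hb)) (hg b (hB₁B hb))
    obtain ⟨b₁, hb₁, hcen⟩ := ih B₁ (by omega) hAB₁ (fun b hb => hBs b (hB₁B hb))
      (fun b hb c hc => hBc b (hB₁B hb) c (hB₁B hc)) hB₁z (g * b₀) hg'
    have hb₁' := (hB₁mem b₁).mp hb₁
    refine ⟨b₀ * b₁, B.mul_mem hb₀B hb₁'.1, ?_⟩
    rw [← mul_assoc]
    apply hcomm_all (g * b₀ * b₁) hcen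
    · rw [mul_assoc, hb₁'.2.1, ← mul_assoc, hgx, mul_assoc]
    · rw [mul_assoc, hb₁'.2.2, ← mul_assoc, hgy, mul_assoc]

/-- **(C3)** -/
theorem T_eq_B [Finite G] (A B : Subgroup G) (hAz : A ≤ Subgroup.center G)
    (hΩ : ∀ a ∈ A, ∀ b ∈ A, a ^ 2 = 1 → b ^ 2 = 1 → a ≠ 1 → b ≠ 1 → a = b)
    (hAB : A ≤ B) (hBs : ∀ b ∈ B, b ^ 2 ∈ A)
    (hBc : ∀ b ∈ B, ∀ c ∈ B, b * c * b⁻¹ * c⁻¹ ∈ A)
    (hBz : ∀ b ∈ B, (∀ c ∈ B, b * c = c * b) → b ∈ A)
    (hCB : ∀ g : G, (∀ b ∈ B, g * b = b * g) → g ∈ A) :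
    ∀ g : G, (∀ b ∈ B, g * b * g⁻¹ * b⁻¹ ∈ A) → g ∈ B := by
  intro g hg
  have hAz' : ∀ a ∈ A, ∀ g : G, g * a = a * g := fun a ha g =>
    Subgroup.mem_center_iff.mp (hAz ha) g
  obtain ⟨b, hb, hcen⟩ := exists_centralizing A hAz' hΩ (Nat.card B) B le_rfl hAB hBs hBc hBz g hg
  have h1 : g * b ∈ A := hCB (g * b) hcen
  have h2 : g = (g * b) * b⁻¹ := by group
  rw [h2]
  exact B.mul_mem (hAB h1) (B.inv_mem hb)

/-- **(C3)** for cyclic `A` -/
theorem T_eq_B_cyclic [Finite G] (A B : Subgroup G) (hAz : A ≤ Subgroup.center G)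
    (hAcyc : IsCyclic A)
    (hAB : A ≤ B) (hBs : ∀ b ∈ B, b ^ 2 ∈ A)
    (hBc : ∀ b ∈ B, ∀ c ∈ B, b * c * b⁻¹ * c⁻¹ ∈ A)
    (hBz : ∀ b ∈ B, (∀ c ∈ B, b * c = c * b) → b ∈ A)
    (hCB : ∀ g : G, (∀ b ∈ B, g * b = b * g) → g ∈ A) :
    ∀ g : G, (∀ b ∈ B, g * b * g⁻¹ * b⁻¹ ∈ A) → g ∈ B := by
  classical
  refine T_eq_B A B hAz ?_ hAB hBs hBc hBz hCB
  intro a ha b hb ha2 hb2 ha1 hb1
  by_contra hab
  haveI : Fintype A := Fintype.ofFinite A
  have hle := IsCyclic.card_pow_eq_one_le (α := A) (n := 2) (by norm_num)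
  have hsub : ({1, ⟨a, ha⟩, ⟨b, hb⟩} : Finset A) ⊆ Finset.univ.filter (fun t : A => t ^ 2 = 1) := by
    intro t ht
    rw [Finset.mem_filter]
    refine ⟨Finset.mem_univ _, ?_⟩
    simp only [Finset.mem_insert, Finset.mem_singleton] at ht
    rcases ht with rfl | rfl | rfl
    · exact one_pow _
    · exact Subtype.ext ha2
    · exact Subtype.ext hb2
  have hcard3 : ({1, ⟨a, ha⟩, ⟨b, hb⟩} : Finset A).card = 3 := by
    rw [Finset.card_insert_of_notMem, Finset.card_insert_of_notMem, Finset.card_singleton]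
    · intro h
      rw [Finset.mem_singleton] at h
      exact hab (congrArg Subtype.val h)
    · intro h
      simp only [Finset.mem_insert, Finset.mem_singleton] at h
      rcases h with h | h
      · exact ha1 (congrArg Subtype.val h).symm
      · exact hb1 (congrArg Subtype.val h).symm
  have := Finset.card_le_card hsub
  omega

end Cfsg.Agent.S3360L
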