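import Mathlib
import Cfsg.Agent.Lib.S3360.TB

/-!
# S3360 (C4), (C5)

* `index_dvd_six`: `A` central cyclic, `B ⊴ G`, `|B : A| = 4`, `B/A` of exponent 2, `C_G(B) ≤ A`
  ⇒ `|G : B| ∣ 6`.
* `card_dvd_of_free_conj`: a subgroup acting freely by conjugation on a finite set `X`
  has order dividing `|X|`.
-/

set_option autoImplicit false
set_option linter.unusedSectionVars false
set_option linter.unusedVariables false
set_option linter.style.haveILetI false

namespace Cfsg.Agent.S3360L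

universe u

/-- **(C5)** -/
theorem card_dvd_of_free_conj {G : Type u} [Group G] (R : Subgroup G) [Finite R] (X : Set G)
    [Finite X] (hst : ∀ g ∈ R, ∀ x ∈ X, g * x * g⁻¹ ∈ X)
    (hfree : ∀ g ∈ R, g ≠ 1 → ∀ x ∈ X, g * x * g⁻¹ ≠ x) : Nat.card R ∣ Nat.card X := by
  letI : MulAction R X :=
    { smul := fun g x => ⟨g.1 * x.1 * g.1⁻¹, hst g.1 g.2 x.1 x.2⟩
      one_smul := fun x => Subtype.ext (by
        show (1 : G) * x.1 * (1 : G)⁻¹ = x.1
        group)
      mul_smul := fun g h x => Subtype.ext (by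
        show (g.1 * h.1) * x.1 * (g.1 * h.1)⁻¹ = g.1 * (h.1 * x.1 * h.1⁻¹) * g.1⁻¹
        group) }
  have hstab : ∀ x : X, MulAction.stabilizer R x = ⊥ := by
    intro x
    rw [Subgroup.eq_bot_iff_forall]
    intro g hg
    by_contra hne
    have h1 : g • x = x := hg
    have h2 : g.1 * x.1 * g.1⁻¹ = x.1 := congrArg Subtype.val h1
    exact hfree g.1 g.2 (fun h => hne (Subtype.ext h)) x.1 x.2 h2
  have e := MulAction.selfEquivOrbitsQuotientProd hstab
  rw [Nat.card_congr e, Nat.card_prod]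
  exact dvd_mul_left _ _

/-- **(C4)** -/
theorem index_dvd_six {G : Type u} [Group G] [Finite G] (A B : Subgroup G)
    (hAc : ∀ a ∈ A, ∀ g : G, a * g = g * a) (hBn : B.Normal) (hAB : A ≤ B)
    (hidx : (A.subgroupOf B).index = 4) (hexp : ∀ b ∈ B, b ^ 2 ∈ A)
    (hCB : ∀ g : G, (∀ b ∈ B, g * b = b * g) → g ∈ A) (hAcyc : IsCyclic A) : B.index ∣ 6 := by
  classical
  haveI := hBn
  have hconj : ∀ a ∈ A, ∀ g : G, g * a * g⁻¹ = a := by
    intro a ha g
    rw [← hAc a ha g, mul_inv_cancel_right]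
  have hAn : A.Normal := ⟨fun a ha g => by rw [hconj a ha g]; exact ha⟩
  have hAz : A ≤ Subgroup.center G := fun a ha =>
    Subgroup.mem_center_iff.mpr (fun g => (hAc a ha g).symm)
  have hBc : ∀ b ∈ B, ∀ c ∈ B, b * c * b⁻¹ * c⁻¹ ∈ A := by
    intro b hb c hc
    have h1 : (b * c) ^ 2 ∈ A := hexp _ (B.mul_mem hb hc)
    have h2 : (b ^ 2)⁻¹ ∈ A := A.inv_mem (hexp b hb)
    have h3 : (c ^ 2)⁻¹ ∈ A := A.inv_mem (hexp c hc)
    have h4 : b * c * b⁻¹ * c⁻¹ = (b * c) ^ 2 * (c⁻¹ * (b ^ 2)⁻¹ * c⁻¹⁻¹) * (c ^ 2)⁻¹ := by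
      rw [pow_two, pow_two, pow_two]
      group
    rw [h4, hconj _ h2 c⁻¹]
    exact A.mul_mem (A.mul_mem h1 h2) h3
  have hBz : ∀ b ∈ B, (∀ c ∈ B, b * c = c * b) → b ∈ A := fun b _ h => hCB b h
  have hT := T_eq_B_cyclic A B hAz hAcyc hAB hexp hBc hBz hCB
  let N : Subgroup B := A.subgroupOf B
  haveI hNn : N.Normal := hAn.subgroupOf B
  have hNmem : ∀ b : B, b ∈ N ↔ (b : G) ∈ A := fun b => Subgroup.mem_subgroupOf
  have hcn : ∀ (g : G) (b : B), ((MulAut.conjNormal g b : B) : G) = g * b * g⁻¹ :=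
    fun g b => MulAut.conjNormal_apply g b
  have hle : ∀ g : G, N ≤ N.comap (MulAut.conjNormal g : MulAut B).toMonoidHom := by
    intro g b hb
    rw [Subgroup.mem_comap, hNmem]
    show ((MulAut.conjNormal g b : B) : G) ∈ A
    rw [hcn, hconj _ ((hNmem b).mp hb) g]
    exact (hNmem b).mp hb
  let act : G → (B ⧸ N) →* (B ⧸ N) := fun g =>
    QuotientGroup.map N N (MulAut.conjNormal g : MulAut B).toMonoidHom (hle g)
  have act_mk : ∀ (g : G) (b : B), act g (b : B ⧸ N) = ((MulAut.conjNormal g b : B) : B ⧸ N) :=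
    fun g b => rfl
  letI instQ : MulAction G (B ⧸ N) :=
    { smul := fun g q => act g q
      one_smul := fun q => by
        induction q using QuotientGroup.induction_on with
        | H b =>
          show act 1 (b : B ⧸ N) = (b : B ⧸ N)
          rw [act_mk, map_one]
          rfl
      mul_smul := fun g h q => by
        induction q using QuotientGroup.induction_on with
        | H b =>
          show act (g * h) (b : B ⧸ N) = act g (act h (b : B ⧸ N))
          rw [act_mk, act_mk, act_mk, map_mul]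
          rfl }
  have smul_def : ∀ (g : G) (q : B ⧸ N), g • q = act g q := fun g q => rfl
  have hne1 : ∀ (g : G) (q : B ⧸ N), q ≠ 1 → g • q ≠ 1 := by
    intro g q hq h1
    apply hq
    have h2 : g⁻¹ • (g • q) = q := inv_smul_smul g q
    rw [h1, smul_def, map_one] at h2
    exact h2.symm
  letI instΩ : MulAction G {q : B ⧸ N // q ≠ 1} :=
    { smul := fun g ω => ⟨g • ω.1, hne1 g ω.1 ω.2⟩
      one_smul := fun ω => Subtype.ext (one_smul G ω.1)
      mul_smul := fun g h ω => Subtype.ext (mul_smul g h ω.1) }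
  have smulΩ : ∀ (g : G) (ω : {q : B ⧸ N // q ≠ 1}), (g • ω).1 = g • ω.1 := fun g ω => rfl
  let f : G →* Equiv.Perm {q : B ⧸ N // q ≠ 1} := MulAction.toPermHom G _
  have hfix : ∀ (g : G) (c : B), g • (c : B ⧸ N) = (c : B ⧸ N) ↔ (g * c * g⁻¹)⁻¹ * c ∈ A := by
    intro g c
    rw [smul_def, act_mk, QuotientGroup.eq, hNmem]
    show ((MulAut.conjNormal g c : B) : G)⁻¹ * (c : G) ∈ A ↔ _
    rw [hcn]
  have hker : f.ker = B := by
    ext g
    rw [MonoidHom.mem_ker]
    constructor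
    · intro hg
      have hg' : ∀ ω : {q : B ⧸ N // q ≠ 1}, g • ω = ω := by
        intro ω
        have := congrArg (fun σ : Equiv.Perm {q : B ⧸ N // q ≠ 1} => σ ω) hg
        exact this
      apply hT g
      intro c hc
      by_cases hcA : c ∈ A
      · rw [hconj c hcA g, mul_inv_cancel]
        exact A.one_mem
      · have hq : ((⟨c, hc⟩ : B) : B ⧸ N) ≠ 1 := by
          intro h
          rw [QuotientGroup.eq_one_iff, hNmem] at h
          exact hcA h
        have h1 := congrArg Subtype.val (hg' ⟨_, hq⟩)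
        rw [smulΩ] at h1
        have h2 := (hfix g ⟨c, hc⟩).mp h1
        -- a := (g c g⁻¹)⁻¹ c ∈ A, so g c g⁻¹ c⁻¹ = c a⁻¹ c⁻¹ = a⁻¹
        have h3 : g * c * g⁻¹ * c⁻¹ = c * ((g * c * g⁻¹)⁻¹ * c)⁻¹ * c⁻¹ := by group
        rw [h3, hconj _ (A.inv_mem h2) c]
        exact A.inv_mem h2
    · intro hg
      apply Equiv.ext
      intro ω
      obtain ⟨q, hq⟩ := ω
      apply Subtype.ext
      show g • q = q
      induction q using QuotientGroup.induction_on with
      | H c =>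
        rw [hfix]
        have h1 := hBc g hg (c : G)⁻¹ (B.inv_mem c.2)
        have h2 : (g * c * g⁻¹)⁻¹ * c = g * (c : G)⁻¹ * g⁻¹ * ((c : G)⁻¹)⁻¹ := by group
        rw [h2]
        exact h1
  have hcardQ : Nat.card (B ⧸ N) = 4 := by
    rw [← Subgroup.index_eq_card]
    exact hidx
  haveI : Finite (B ⧸ N) := Nat.finite_of_card_ne_zero (by rw [hcardQ]; norm_num)
  have hcardΩ : Nat.card {q : B ⧸ N // q ≠ 1} = 3 := by
    haveI : Fintype (B ⧸ N) := Fintype.ofFinite _
    rw [Nat.card_eq_fintype_card, Fintype.card_subtype_compl (fun q : B ⧸ N => q = 1),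
      Fintype.card_subtype_eq, ← Nat.card_eq_fintype_card, hcardQ]
  rw [← hker, Subgroup.index_ker]
  have h1 : Nat.card f.range ∣ Nat.card (Equiv.Perm {q : B ⧸ N // q ≠ 1}) :=
    Subgroup.card_subgroup_dvd_card _
  rw [Nat.card_perm, hcardΩ] at h1
  exact h1

end Cfsg.Agent.S3360L
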