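import Mathlib

/-!
# S3360 (C0), (C1): a maximal abelian normal subgroup `A`, and a normal subgroup `B` with
`A < B ≤ D`, `B/A` elementary abelian and `Z(B) = A`.
-/

set_option autoImplicit false
set_option linter.unusedSectionVars false
set_option linter.unusedVariables false
set_option linter.style.haveILetI false

open scoped commutatorElement

namespace Cfsg.Agent.S3360L

universe u

section general

variable {X : Type u} [Group X]

/-- the derived series of a subgroup, as subgroups of the ambient group -/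
def dser (N : Subgroup X) : ℕ → Subgroup X
  | 0 => N
  | n + 1 => ⁅dser N n, dser N n⁆

theorem dser_zero (N : Subgroup X) : dser N 0 = N := rfl

theorem dser_succ (N : Subgroup X) (n : ℕ) : dser N (n + 1) = ⁅dser N n, dser N n⁆ := rfl

theorem dser_normal (N : Subgroup X) (hN : N.Normal) : ∀ n, (dser N n).Normal
  | 0 => hN
  | n + 1 => by
    haveI := dser_normal N hN n
    rw [dser_succ]
    exact Subgroup.commutator_normal _ _

theorem dser_le_derivedSeries (N : Subgroup X) : ∀ n, dser N n ≤ derivedSeries X n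
  | 0 => le_top
  | n + 1 => Subgroup.commutator_mono (dser_le_derivedSeries N n) (dser_le_derivedSeries N n)

theorem dser_le (N : Subgroup X) : ∀ n, dser N n ≤ N
  | 0 => le_rfl
  | n + 1 => by
    rw [dser_succ, Subgroup.commutator_le]
    intro g₁ h₁ g₂ h₂
    have h1 := dser_le N n h₁
    have h2 := dser_le N n h₂
    rw [commutatorElement_def]
    exact N.mul_mem (N.mul_mem (N.mul_mem h1 h2) (N.inv_mem h1)) (N.inv_mem h2)

/-- a non-trivial normal subgroup of a finite solvable group contains a non-trivial normal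
elementary abelian subgroup of the whole group -/
theorem exists_elem_abelian_normal [Finite X] (hsol : Group.IsSolvable X) (N : Subgroup X)
    (hN : N.Normal) (hne : N ≠ ⊥) :
    ∃ (B : Subgroup X) (s : ℕ), s.Prime ∧ B.Normal ∧ B ≠ ⊥ ∧ B ≤ N ∧ (∀ b ∈ B, b ^ s = 1) ∧
      (∀ b ∈ B, ∀ c ∈ B, b * c = c * b) := by
  classical
  obtain ⟨n, hn⟩ := hsol.solvable
  have hbot : dser N n = ⊥ := le_bot_iff.mp (hn ▸ dser_le_derivedSeries N n)
  have hex : ∃ i, dser N i = ⊥ := ⟨n, hbot⟩
  have hi0 : Nat.find hex ≠ 0 := by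
    intro h0
    have := Nat.find_spec hex
    rw [h0, dser_zero] at this
    exact hne this
  obtain ⟨j, hj⟩ := Nat.exists_eq_succ_of_ne_zero hi0
  have hMne : dser N j ≠ ⊥ := by
    have := Nat.find_min hex (m := j) (by omega)
    exact this
  have hMM : ⁅dser N j, dser N j⁆ = ⊥ := by
    have := Nat.find_spec hex
    rw [hj] at this
    exact this
  have hMn : (dser N j).Normal := dser_normal N hN j
  have hMle : dser N j ≤ N := dser_le N j
  have hMab : ∀ b ∈ dser N j, ∀ c ∈ dser N j, b * c = c * b := by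
    intro b hb c hc
    have h1 : ⁅b, c⁆ ∈ ⁅dser N j, dser N j⁆ := Subgroup.commutator_mem_commutator hb hc
    rw [hMM, Subgroup.mem_bot] at h1
    exact commutatorElement_eq_one_iff_mul_comm.mp h1
  set M := dser N j with hM
  have hcard : Nat.card M ≠ 1 := by
    intro h1
    exact hMne (Subgroup.card_eq_one.mp h1)
  have hs : (Nat.card M).minFac.Prime := Nat.minFac_prime hcard
  haveI : Fact (Nat.card M).minFac.Prime := ⟨hs⟩
  obtain ⟨x, hx⟩ := exists_prime_orderOf_dvd_card' (G := M) (Nat.card M).minFac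
    (Nat.minFac_dvd _)
  set s := (Nat.card M).minFac with hsdef
  let B : Subgroup X :=
    { carrier := {b | b ∈ M ∧ b ^ s = 1}
      mul_mem' := by
        rintro b c ⟨hb, hb1⟩ ⟨hc, hc1⟩
        refine ⟨M.mul_mem hb hc, ?_⟩
        have hcomm : Commute b c := hMab b hb c hc
        rw [hcomm.mul_pow, hb1, hc1, one_mul]
      one_mem' := ⟨M.one_mem, one_pow _⟩
      inv_mem' := by
        rintro b ⟨hb, hb1⟩
        exact ⟨M.inv_mem hb, by rw [inv_pow, hb1, inv_one]⟩ }
  have hBmem : ∀ b, b ∈ B ↔ b ∈ M ∧ b ^ s = 1 := fun b => Iff.rfl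
  refine ⟨B, s, hs, ⟨?_⟩, ?_, ?_, ?_, ?_⟩
  · intro b hb g
    rw [hBmem] at hb ⊢
    refine ⟨hMn.conj_mem b hb.1 g, ?_⟩
    rw [conj_pow, hb.2, mul_one, mul_inv_cancel]
  · intro hB
    have hxB : (x : X) ∈ B := by
      rw [hBmem]
      refine ⟨x.2, ?_⟩
      have h1 : x ^ s = 1 := by rw [← hx]; exact pow_orderOf_eq_one x
      have h2 := congrArg Subtype.val h1
      simpa using h2
    rw [hB, Subgroup.mem_bot] at hxB
    have hx1 : x = 1 := Subtype.ext hxB
    rw [hx1, orderOf_one] at hx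
    exact hs.one_lt.ne hx
  · intro b hb
    exact hMle ((hBmem b).mp hb).1
  · intro b hb
    exact ((hBmem b).mp hb).2
  · intro b hb c hc
    exact hMab b ((hBmem b).mp hb).1 c ((hBmem c).mp hc).1

end general

section C0

variable {G : Type u} [Group G] [Finite G]

/-- **(C0)** a maximal abelian normal subgroup -/
theorem exists_max_abelian_normal :
    ∃ A : Subgroup G, A.Normal ∧ (∀ a ∈ A, ∀ b ∈ A, a * b = b * a) ∧
      ∀ A' : Subgroup G, A'.Normal → (∀ a ∈ A', ∀ b ∈ A', a * b = b * a) → A ≤ A' → A' = A := by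
  have h0 : (fun A : Subgroup G => A.Normal ∧ ∀ a ∈ A, ∀ b ∈ A, a * b = b * a) ⊥ := by
    refine ⟨inferInstance, ?_⟩
    intro a ha b hb
    rw [Subgroup.mem_bot] at ha hb
    rw [ha, hb]
  obtain ⟨A, -, hA⟩ := Finite.exists_le_maximal
    (p := fun A : Subgroup G => A.Normal ∧ ∀ a ∈ A, ∀ b ∈ A, a * b = b * a) (a := ⊥) h0
  refine ⟨A, hA.1.1, hA.1.2, ?_⟩
  intro A' hn hc hle
  exact le_antisymm (hA.2 ⟨hn, hc⟩ hle) hle

/-- **(C1)** -/
theorem exists_B (hsol : Group.IsSolvable G) (A : Subgroup G) (hAn : A.Normal)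
    (hAc : ∀ a ∈ A, ∀ b ∈ A, a * b = b * a)
    (hAmax : ∀ A' : Subgroup G, A'.Normal → (∀ a ∈ A', ∀ b ∈ A', a * b = b * a) →
      A ≤ A' → A' = A)
    (D : Subgroup G) (hDn : D.Normal) (hAD : A < D)
    (hDC : D ≤ Subgroup.centralizer (A : Set G)) :
    ∃ (B : Subgroup G) (s : ℕ), s.Prime ∧ B.Normal ∧ A < B ∧ B ≤ D ∧ (∀ b ∈ B, b ^ s ∈ A) ∧
      (∀ b ∈ B, ∀ c ∈ B, b * c * b⁻¹ * c⁻¹ ∈ A) ∧
      (∀ b ∈ B, (∀ c ∈ B, b * c = c * b) → b ∈ A) := by
  classical
  haveI := hAn
  let π : G →* G ⧸ A := QuotientGroup.mk' A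
  have hπs : Function.Surjective π := QuotientGroup.mk'_surjective A
  have hπ1 : ∀ g : G, π g = 1 ↔ g ∈ A := fun g => QuotientGroup.eq_one_iff g
  have hsolQ : Group.IsSolvable (G ⧸ A) := Group.isSolvable_of_surjective hπs
  have hDbn : (D.map π).Normal := hDn.map π hπs
  have hDbne : D.map π ≠ ⊥ := by
    intro h
    obtain ⟨d, hdD, hdA⟩ := Set.exists_of_ssubset hAD
    have h1 : π d ∈ D.map π := Subgroup.mem_map_of_mem π hdD
    rw [h, Subgroup.mem_bot, hπ1] at h1
    exact hdA h1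
  obtain ⟨Bb, s, hs, hBbn, hBbne, hBble, hBbs, hBbc⟩ :=
    exists_elem_abelian_normal hsolQ (D.map π) hDbn hDbne
  have hBmem : ∀ b, b ∈ Bb.comap π ↔ π b ∈ Bb := fun b => Iff.rfl
  have hAB : A ≤ Bb.comap π := by
    intro a ha
    rw [hBmem, (hπ1 a).mpr ha]
    exact Bb.one_mem
  have hBD : Bb.comap π ≤ D := by
    intro b hb
    have h1 : π b ∈ D.map π := hBble hb
    obtain ⟨d, hd, hdb⟩ := Subgroup.mem_map.mp h1
    have h2 : d⁻¹ * b ∈ A := by
      rw [← hπ1, map_mul, map_inv, hdb, inv_mul_cancel]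
    have h3 : b = d * (d⁻¹ * b) := by group
    rw [h3]
    exact D.mul_mem hd (hAD.le h2)
  have hBn : (Bb.comap π).Normal := hBbn.comap π
  refine ⟨Bb.comap π, s, hs, hBn, ?_, hBD, ?_, ?_, ?_⟩
  · refine lt_of_le_of_ne hAB ?_
    intro heq
    apply hBbne
    rw [Subgroup.eq_bot_iff_forall]
    intro x hx
    obtain ⟨b, rfl⟩ := hπs x
    have hb : b ∈ Bb.comap π := hx
    rw [← heq] at hb
    exact (hπ1 b).mpr hb
  · intro b hb
    rw [← hπ1, map_pow]
    exact hBbs _ hb
  · intro b hb c hc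
    rw [← hπ1, map_mul, map_mul, map_mul, map_inv, map_inv, hBbc _ hb _ hc]
    group
  · -- the centre of `B`
    let Z : Subgroup G :=
      { carrier := {b | b ∈ Bb.comap π ∧ ∀ c ∈ Bb.comap π, b * c = c * b}
        mul_mem' := by
          rintro x y ⟨hx, hxc⟩ ⟨hy, hyc⟩
          refine ⟨(Bb.comap π).mul_mem hx hy, ?_⟩
          intro c hc
          rw [mul_assoc, hyc c hc, ← mul_assoc, hxc c hc, mul_assoc]
        one_mem' := ⟨(Bb.comap π).one_mem, fun c _ => by rw [one_mul, mul_one]⟩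
        inv_mem' := by
          rintro x ⟨hx, hxc⟩
          refine ⟨(Bb.comap π).inv_mem hx, ?_⟩
          intro c hc
          have h1 := hxc c hc
          calc x⁻¹ * c = x⁻¹ * (c * x) * x⁻¹ := by group
            _ = x⁻¹ * (x * c) * x⁻¹ := by rw [h1]
            _ = c * x⁻¹ := by group }
    have hZmem : ∀ b, b ∈ Z ↔ b ∈ Bb.comap π ∧ ∀ c ∈ Bb.comap π, b * c = c * b :=
      fun b => Iff.rfl
    have hZn : Z.Normal := by
      refine ⟨?_⟩
      intro b hb g
      rw [hZmem] at hb ⊢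
      refine ⟨hBn.conj_mem b hb.1 g, ?_⟩
      intro c hc
      have hc' : g⁻¹ * c * g ∈ Bb.comap π := by
        have := hBn.conj_mem c hc g⁻¹
        rwa [inv_inv] at this
      have h1 := hb.2 _ hc'
      calc g * b * g⁻¹ * c = g * (b * (g⁻¹ * c * g)) * g⁻¹ := by group
        _ = g * ((g⁻¹ * c * g) * b) * g⁻¹ := by rw [h1]
        _ = c * (g * b * g⁻¹) := by group
    have hZc : ∀ a ∈ Z, ∀ b ∈ Z, a * b = b * a := by
      intro a ha b hb
      exact ((hZmem a).mp ha).2 b ((hZmem b).mp hb).1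
    have hAZ : A ≤ Z := by
      intro a ha
      rw [hZmem]
      refine ⟨hAB ha, ?_⟩
      intro c hc
      have h1 : c ∈ Subgroup.centralizer (A : Set G) := hDC (hBD hc)
      exact Subgroup.mem_centralizer_iff.mp h1 a ha
    have hZA : Z = A := hAmax Z hZn hZc hAZ
    intro b hb hbc
    rw [← hZA, hZmem]
    exact ⟨hb, hbc⟩

end C0

end Cfsg.Agent.S3360L
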