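import Mathlib

/-!
# S3360: the prime `s` of `B/A` differs from the characteristic `q`

* `abelian_of_coprime_exp`: if `A ≤ Z(B)`, `[B,B] ≤ A`, `b ^ s ∈ A` for `b ∈ B`, and `A` has
  exponent dividing `N` coprime to `s`, then `B` is abelian.
* `pow_card_sub_one_of_scalar`: elements of `A` acting as scalars of a finite field `K` have
  order dividing `|K| - 1`.
* `s_ne_q`: the combination.
-/

set_option autoImplicit false
set_option linter.unusedSectionVars false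
set_option linter.unusedVariables false
set_option linter.style.haveILetI false

namespace Cfsg.Agent.S3360L

universe u v

section group

variable {G : Type u} [Group G]

/-- the commutator `b c b⁻¹ c⁻¹` is multiplicative in `b` when commutators are central in `B` -/
theorem comm_pow_left (A B : Subgroup G) (hAcen : ∀ a ∈ A, ∀ b ∈ B, a * b = b * a)
    (hBc : ∀ b ∈ B, ∀ c ∈ B, b * c * b⁻¹ * c⁻¹ ∈ A) (b c : G) (hb : b ∈ B) (hc : c ∈ B) :
    ∀ k : ℕ, b ^ k * c * (b ^ k)⁻¹ * c⁻¹ = (b * c * b⁻¹ * c⁻¹) ^ k := by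
  intro k
  induction k with
  | zero => simp
  | succ k ih =>
    have hz : b * c * b⁻¹ * c⁻¹ ∈ A := hBc b hb c hc
    have hbk : b ^ k ∈ B := B.pow_mem hb k
    have h1 : b ^ (k + 1) * c * (b ^ (k + 1))⁻¹ * c⁻¹
        = b ^ k * (b * c * b⁻¹ * c⁻¹) * (b ^ k)⁻¹ * (b ^ k * c * (b ^ k)⁻¹ * c⁻¹) := by
      rw [pow_succ]
      group
    have h2 : b ^ k * (b * c * b⁻¹ * c⁻¹) * (b ^ k)⁻¹ = b * c * b⁻¹ * c⁻¹ := by
      rw [← hAcen _ hz _ hbk, mul_inv_cancel_right]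
    rw [h1, h2, ih, pow_succ']

theorem abelian_of_coprime_exp (A B : Subgroup G) (s N : ℕ)
    (hAcen : ∀ a ∈ A, ∀ b ∈ B, a * b = b * a)
    (hBs : ∀ b ∈ B, b ^ s ∈ A) (hBc : ∀ b ∈ B, ∀ c ∈ B, b * c * b⁻¹ * c⁻¹ ∈ A)
    (hN : ∀ a ∈ A, a ^ N = 1) (hcop : Nat.Coprime N s) :
    ∀ b ∈ B, ∀ c ∈ B, b * c = c * b := by
  intro b hb c hc
  have hz : b * c * b⁻¹ * c⁻¹ ∈ A := hBc b hb c hc
  have h1 : (b * c * b⁻¹ * c⁻¹) ^ s = 1 := by
    rw [← comm_pow_left A B hAcen hBc b c hb hc s, hAcen _ (hBs b hb) c hc, mul_assoc c,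
      mul_inv_cancel, mul_one, mul_inv_cancel]
  have h2 : (b * c * b⁻¹ * c⁻¹) ^ N = 1 := hN _ hz
  have h3 : orderOf (b * c * b⁻¹ * c⁻¹) ∣ Nat.gcd N s :=
    Nat.dvd_gcd (orderOf_dvd_of_pow_eq_one h2) (orderOf_dvd_of_pow_eq_one h1)
  rw [hcop, Nat.dvd_one, orderOf_eq_one_iff] at h3
  have h4 : b * c = (b * c * b⁻¹ * c⁻¹) * (c * b) := by group
  rw [h4, h3, one_mul]

/-- `B` with `Z(B) ≤ A < B` is not abelian, so `s` is not coprime to the exponent of `A` -/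
theorem not_coprime_exp (A B : Subgroup G) (s N : ℕ)
    (hAcen : ∀ a ∈ A, ∀ b ∈ B, a * b = b * a) (hAB : A < B)
    (hBs : ∀ b ∈ B, b ^ s ∈ A) (hBc : ∀ b ∈ B, ∀ c ∈ B, b * c * b⁻¹ * c⁻¹ ∈ A)
    (hBz : ∀ b ∈ B, (∀ c ∈ B, b * c = c * b) → b ∈ A)
    (hN : ∀ a ∈ A, a ^ N = 1) : ¬ Nat.Coprime N s := by
  intro hcop
  have hab := abelian_of_coprime_exp A B s N hAcen hBs hBc hN hcop
  obtain ⟨b, hbB, hbA⟩ := Set.exists_of_ssubset hAB
  exact hbA (hBz b hbB (fun c hc => hab b hbB c hc))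

end group

section linear

variable {q : ℕ} [Fact q.Prime] {V : Type v} [AddCommGroup V] [Module (ZMod q) V]
  [Nontrivial V] {G : Type u} [Group G] (ρ : G →* (V ≃ₗ[ZMod q] V))

/-- elements acting as scalars of a finite field `K` have order dividing `|K| - 1` -/
theorem pow_card_sub_one_of_scalar (hρ : Function.Injective ρ) {K : Type*} [Field K] [Fintype K]
    [Module K V] (a : G) (ha : ∃ c : K, ∀ v, ρ a v = c • v) : a ^ (Nat.card K - 1) = 1 := by
  obtain ⟨c, hc⟩ := ha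
  obtain ⟨v₀, hv₀⟩ := exists_ne (0 : V)
  have hc0 : c ≠ 0 := by
    rintro rfl
    have h1 := hc v₀
    rw [zero_smul] at h1
    have h2 : ρ a v₀ = ρ a 0 := by rw [h1, map_zero]
    exact hv₀ ((ρ a).injective h2)
  have hpow : ∀ (k : ℕ) (v : V), ρ (a ^ k) v = c ^ k • v := by
    intro k
    induction k with
    | zero =>
      intro v
      rw [pow_zero, pow_zero, map_one, one_smul]
      rfl
    | succ k ih =>
      intro v
      rw [pow_succ, map_mul, LinearEquiv.mul_apply, hc, ih, smul_smul, pow_succ]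
  apply hρ
  rw [map_one]
  ext v
  rw [hpow, Nat.card_eq_fintype_card, FiniteField.pow_card_sub_one_eq_one c hc0, one_smul]
  rfl

/-- **`s ≠ q`**: in the situation of (K) and (C1) the prime `s` is not the characteristic -/
theorem s_ne_q (hρ : Function.Injective ρ) {K : Type*} [Field K] [Fintype K] [Module K V]
    (m : ℕ) (hK : Nat.card K = q ^ m)
    (A B : Subgroup G) (hKA : ∀ a ∈ A, ∃ c : K, ∀ v, ρ a v = c • v) (s : ℕ)
    (hAcen : ∀ a ∈ A, ∀ b ∈ B, a * b = b * a) (hAB : A < B)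
    (hBs : ∀ b ∈ B, b ^ s ∈ A) (hBc : ∀ b ∈ B, ∀ c ∈ B, b * c * b⁻¹ * c⁻¹ ∈ A)
    (hBz : ∀ b ∈ B, (∀ c ∈ B, b * c = c * b) → b ∈ A) : s ≠ q := by
  rintro rfl
  have hN : ∀ a ∈ A, a ^ (Nat.card K - 1) = 1 := fun a ha =>
    pow_card_sub_one_of_scalar ρ hρ a (hKA a ha)
  apply not_coprime_exp A B s (Nat.card K - 1) hAcen hAB hBs hBc hBz hN
  have hs : s.Prime := Fact.out
  rw [hK]
  have hm : m ≠ 0 := by
    rintro rfl
    rw [pow_zero] at hK
    have : 1 < Nat.card K := Finite.one_lt_card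
    omega
  have h1 : 1 ≤ s ^ m := Nat.one_le_pow _ _ hs.pos
  rw [Nat.coprime_comm, Nat.Prime.coprime_iff_not_dvd hs]
  intro hdvd
  have h2 : s ∣ s ^ m := dvd_pow_self s hm
  have h3 : s ∣ s ^ m - (s ^ m - 1) := Nat.dvd_sub h2 hdvd
  have h4 : s ^ m - (s ^ m - 1) = 1 := by omega
  rw [h4] at h3
  exact hs.one_lt.ne' (Nat.dvd_one.mp h3)

end linear

end Cfsg.Agent.S3360L
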