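import Mathlib

/-!
# S3360 (C2): the product of two commuting subgroups `B`, `B'` with `B/A`, `B'/A` elementary
abelian and `Z(B) = Z(B') = A` has the same properties, and `|B B'| |A| = |B| |B'|`.
-/

set_option autoImplicit false
set_option linter.unusedSectionVars false
set_option linter.unusedVariables false
set_option linter.style.haveILetI false

namespace Cfsg.Agent.S3360L

universe u

variable {G : Type u} [Group G]

theorem card_mul_relIndex_of_le {K L : Subgroup G} (h : K ≤ L) :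
    Nat.card K * K.relIndex L = Nat.card L := by
  have := Subgroup.relIndex_mul_relIndex (⊥ : Subgroup G) K L bot_le h
  rwa [Subgroup.relIndex_bot_left, Subgroup.relIndex_bot_left] at this

/-- **(C2)** -/
theorem sup_props [Finite G] (A B B' : Subgroup G) (s : ℕ)
    (hBn : B.Normal) (hB'n : B'.Normal) (hAB : A ≤ B) (hAB' : A ≤ B')
    (hBs : ∀ b ∈ B, b ^ s ∈ A) (hBc : ∀ b ∈ B, ∀ c ∈ B, b * c * b⁻¹ * c⁻¹ ∈ A)
    (hBz : ∀ b ∈ B, (∀ c ∈ B, b * c = c * b) → b ∈ A)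
    (hB's : ∀ b ∈ B', b ^ s ∈ A) (hB'c : ∀ b ∈ B', ∀ c ∈ B', b * c * b⁻¹ * c⁻¹ ∈ A)
    (hB'z : ∀ b ∈ B', (∀ c ∈ B', b * c = c * b) → b ∈ A)
    (hcent : B' ≤ Subgroup.centralizer (B : Set G)) :
    (∀ h ∈ B ⊔ B', h ^ s ∈ A) ∧
    (∀ h ∈ B ⊔ B', ∀ k ∈ B ⊔ B', h * k * h⁻¹ * k⁻¹ ∈ A) ∧
    (∀ h ∈ B ⊔ B', (∀ k ∈ B ⊔ B', h * k = k * h) → h ∈ A) ∧
    Nat.card ↥(B ⊔ B') * Nat.card A = Nat.card B * Nat.card B' := by
  haveI := hBn
  haveI := hB'n
  -- elements of `B` and `B'` commute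
  have hcomm : ∀ b ∈ B, ∀ b' ∈ B', b * b' = b' * b := by
    intro b hb b' hb'
    exact Subgroup.mem_centralizer_iff.mp (hcent hb') b hb
  have hmem : ∀ x, x ∈ B ⊔ B' ↔ ∃ y ∈ B, ∃ z ∈ B', y * z = x :=
    fun x => Subgroup.mem_sup_of_normal_right
  refine ⟨?_, ?_, ?_, ?_⟩
  · intro h hh
    obtain ⟨b, hb, b', hb', rfl⟩ := (hmem h).mp hh
    have hc : Commute b b' := hcomm b hb b' hb'
    rw [hc.mul_pow]
    exact A.mul_mem (hBs b hb) (hB's b' hb')
  · intro h hh k hk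
    obtain ⟨b, hb, b', hb', rfl⟩ := (hmem h).mp hh
    obtain ⟨c, hc, c', hc', rfl⟩ := (hmem k).mp hk
    have h1 : b * b' * (c * c') * (b * b')⁻¹ * (c * c')⁻¹
        = (b * c * b⁻¹ * c⁻¹) * (b' * c' * b'⁻¹ * c'⁻¹) := by
      have e1 : b' * c = c * b' := (hcomm c hc b' hb').symm
      have e2 : b'⁻¹ * b⁻¹ = b⁻¹ * b'⁻¹ := by
        rw [← mul_inv_rev, ← mul_inv_rev, (hcomm b hb b' hb')]
      have e3 : c'⁻¹ * c⁻¹ = c⁻¹ * c'⁻¹ := by
        rw [← mul_inv_rev, ← mul_inv_rev, (hcomm c hc c' hc')]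
      have e4 : b' * c' * b'⁻¹ * c'⁻¹ ∈ B' :=
        B'.mul_mem (B'.mul_mem (B'.mul_mem hb' hc') (B'.inv_mem hb')) (B'.inv_mem hc')
      have e5 : b⁻¹ * c⁻¹ ∈ B := B.mul_mem (B.inv_mem hb) (B.inv_mem hc)
      have e6 := hcomm _ e5 _ e4
      calc b * b' * (c * c') * (b * b')⁻¹ * (c * c')⁻¹
          = b * (b' * c) * c' * (b'⁻¹ * b⁻¹) * (c'⁻¹ * c⁻¹) := by
            rw [mul_inv_rev, mul_inv_rev]; simp only [mul_assoc]
        _ = b * (c * b') * c' * (b⁻¹ * b'⁻¹) * (c⁻¹ * c'⁻¹) := by rw [e1, e2, e3]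
        _ = b * c * (b' * c' * b⁻¹) * b'⁻¹ * (c⁻¹ * c'⁻¹) := by simp only [mul_assoc]
        _ = b * c * (b⁻¹ * (b' * c')) * b'⁻¹ * (c⁻¹ * c'⁻¹) := by
            rw [(hcomm b⁻¹ (B.inv_mem hb) (b' * c') (B'.mul_mem hb' hc'))]
        _ = b * c * b⁻¹ * (b' * c' * b'⁻¹ * c⁻¹) * c'⁻¹ := by simp only [mul_assoc]
        _ = b * c * b⁻¹ * (c⁻¹ * (b' * c' * b'⁻¹)) * c'⁻¹ := by
            rw [(hcomm c⁻¹ (B.inv_mem hc) (b' * c' * b'⁻¹)
              (B'.mul_mem (B'.mul_mem hb' hc') (B'.inv_mem hb')))]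
        _ = (b * c * b⁻¹ * c⁻¹) * (b' * c' * b'⁻¹ * c'⁻¹) := by simp only [mul_assoc]
    rw [h1]
    exact A.mul_mem (hBc b hb c hc) (hB'c b' hb' c' hc')
  · intro h hh hcen
    obtain ⟨b, hb, b', hb', rfl⟩ := (hmem h).mp hh
    have hbA : b ∈ A := by
      apply hBz b hb
      intro c hc
      have h1 := hcen c (Subgroup.mem_sup_left hc)
      -- b * b' * c = c * (b * b')
      have h2 : b * c * b' = c * b * b' := by
        calc b * c * b' = b * (c * b') := by rw [mul_assoc]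
          _ = b * (b' * c) := by rw [hcomm c hc b' hb']
          _ = b * b' * c := by rw [mul_assoc]
          _ = c * (b * b') := h1
          _ = c * b * b' := by rw [mul_assoc]
      exact mul_right_cancel h2
    have hb'A : b' ∈ A := by
      apply hB'z b' hb'
      intro c' hc'
      have h1 := hcen c' (Subgroup.mem_sup_right hc')
      have h2 : b * (b' * c') = b * (c' * b') := by
        calc b * (b' * c') = b * b' * c' := by rw [mul_assoc]
          _ = c' * (b * b') := h1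
          _ = c' * b * b' := by rw [mul_assoc]
          _ = b * c' * b' := by rw [hcomm b hb c' hc']
          _ = b * (c' * b') := by rw [mul_assoc]
      exact mul_left_cancel h2
    exact A.mul_mem hbA hb'A
  · have hinf : B ⊓ B' = A := by
      apply le_antisymm
      · intro x hx
        rw [Subgroup.mem_inf] at hx
        apply hBz x hx.1
        intro c hc
        exact (hcomm c hc x hx.2).symm
      · exact le_inf hAB hAB'
    have h1 : Nat.card B' * B'.relIndex (B ⊔ B') = Nat.card ↥(B ⊔ B') :=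
      card_mul_relIndex_of_le le_sup_right
    have h2 : Nat.card ↥(B ⊓ B') * (B ⊓ B').relIndex B = Nat.card B :=
      card_mul_relIndex_of_le inf_le_left
    rw [Subgroup.relIndex_sup_right] at h1
    rw [Subgroup.inf_relIndex_left, hinf] at h2
    rw [← h1, ← h2]
    ring

end Cfsg.Agent.S3360L
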