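import Mathlib

/-!
# S3360 (M1): a self-centralising cyclic normal subgroup `A` has `|G| ≤ |A|²`
-/

set_option autoImplicit false
set_option linter.unusedVariables false
set_option linter.style.haveILetI false

namespace Cfsg.Agent.S3360L

universe u

/-- **(M1)** -/
theorem card_le_sq_of_centralizer_le {G : Type u} [Group G] [Finite G] (A : Subgroup G)
    (hAn : A.Normal) (hAcyc : IsCyclic A)
    (hCA : ∀ g : G, (∀ a ∈ A, g * a = a * g) → g ∈ A) : Nat.card G ≤ Nat.card A ^ 2 := by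
  classical
  haveI := hAn
  obtain ⟨a₀, ha₀⟩ := hAcyc.exists_generator
  -- `A` is commutative
  have hAcomm : ∀ a ∈ A, ∀ b ∈ A, a * b = b * a := by
    intro a ha b hb
    have h := (IsCyclic.commGroup (α := A)).mul_comm ⟨a, ha⟩ ⟨b, hb⟩
    exact congrArg Subtype.val h
  -- centralising the generator means centralising `A`
  have hgen : ∀ g : G, g * (a₀ : G) = (a₀ : G) * g → ∀ a ∈ A, g * a = a * g := by
    intro g hg a ha
    obtain ⟨k, hk⟩ := Subgroup.mem_zpowers_iff.mp (ha₀ ⟨a, ha⟩)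
    have h1 : a = (a₀ : G) ^ k := by
      have h2 : ((a₀ ^ k : A) : G) = a := congrArg Subtype.val hk
      rw [← h2]
      exact Subgroup.coe_zpow A a₀ k
    rw [h1]
    have hc : Commute g (a₀ : G) := hg
    exact (hc.zpow_right k)
  let ψ : G ⧸ A → A := fun x =>
    Quotient.liftOn' x (fun g => (⟨g * (a₀ : G) * g⁻¹, hAn.conj_mem _ a₀.2 g⟩ : A)) (by
      intro g h hgh
      have h1 : g⁻¹ * h ∈ A := QuotientGroup.leftRel_apply.mp hgh
      apply Subtype.ext
      show g * (a₀ : G) * g⁻¹ = h * (a₀ : G) * h⁻¹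
      have h2 : h = g * (g⁻¹ * h) := by group
      rw [h2]
      have h3 := hAcomm _ h1 _ a₀.2
      calc g * (a₀ : G) * g⁻¹ = g * ((a₀ : G) * (g⁻¹ * h)) * (g⁻¹ * h)⁻¹ * g⁻¹ := by group
        _ = g * ((g⁻¹ * h) * (a₀ : G)) * (g⁻¹ * h)⁻¹ * g⁻¹ := by rw [h3]
        _ = g * (g⁻¹ * h) * (a₀ : G) * (g * (g⁻¹ * h))⁻¹ := by group)
  have hψ : ∀ g : G, ψ (g : G ⧸ A) = ⟨g * (a₀ : G) * g⁻¹, hAn.conj_mem _ a₀.2 g⟩ := fun g => rfl
  have hinj : Function.Injective ψ := by
    intro x y hxy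
    induction x using QuotientGroup.induction_on with
    | H g =>
      induction y using QuotientGroup.induction_on with
      | H h =>
        rw [hψ, hψ] at hxy
        have h1 : g * (a₀ : G) * g⁻¹ = h * (a₀ : G) * h⁻¹ := congrArg Subtype.val hxy
        rw [QuotientGroup.eq]
        apply hCA
        apply hgen
        calc g⁻¹ * h * (a₀ : G) = g⁻¹ * (h * (a₀ : G) * h⁻¹) * h := by group
          _ = g⁻¹ * (g * (a₀ : G) * g⁻¹) * h := by rw [h1]
          _ = (a₀ : G) * (g⁻¹ * h) := by group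
  have hle : Nat.card (G ⧸ A) ≤ Nat.card A := Nat.card_le_card_of_injective ψ hinj
  rw [← Subgroup.card_mul_index A, Subgroup.index_eq_card, pow_two]
  exact Nat.mul_le_mul_left _ hle

end Cfsg.Agent.S3360L
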