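import Mathlib

/-! # S3360, Heisenberg lemma, part A: eigenspace decomposition

`T ^ s = 1`, `T ∘ Y = ζ • Y ∘ T` with `Y` injective and `ζ` a primitive `s`-th root of unity
⇒ `finrank W = s * finrank (eigenspace T 1)`. -/

set_option autoImplicit false

namespace Cfsg.Agent.S3360L

open Module

universe w

variable {L : Type*} [Field L] {W : Type w} [AddCommGroup W] [Module L W]

/-- `Y` maps the `μ`-eigenspace of `T` into the `ζ μ`-eigenspace -/
theorem heisA_map_eigenspace (T Y : End L W) (ζ : L) (hTY : T * Y = ζ • (Y * T)) (μ : L)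
    (w : W) (hw : w ∈ End.eigenspace T μ) : Y w ∈ End.eigenspace T (ζ * μ) := by
  rw [End.mem_eigenspace_iff] at hw ⊢
  have h1 : T (Y w) = (T * Y) w := rfl
  rw [h1, hTY]
  simp only [LinearMap.smul_apply, Module.End.mul_apply, hw, map_smul, smul_smul]

theorem heisA_finrank_le [FiniteDimensional L W] (T Y : End L W) (ζ : L)
    (hTY : T * Y = ζ • (Y * T)) (hY : Function.Injective Y) (μ : L) :
    finrank L (End.eigenspace T μ) ≤ finrank L (End.eigenspace T (ζ * μ)) := by
  let f : End.eigenspace T μ →ₗ[L] End.eigenspace T (ζ * μ) :=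
    (Y.comp (End.eigenspace T μ).subtype).codRestrict (End.eigenspace T (ζ * μ))
      (fun w => heisA_map_eigenspace T Y ζ hTY μ w w.2)
  have hf : Function.Injective f := by
    intro a b hab
    have h1 : Y (a : W) = Y (b : W) := congrArg Subtype.val hab
    exact Subtype.ext (hY h1)
  exact LinearMap.finrank_le_finrank_of_injective hf

theorem heisA_finrank_pow [FiniteDimensional L W] (T Y : End L W) (ζ : L) (s : ℕ) (hs : 0 < s)
    (hζ : ζ ^ s = 1) (hTY : T * Y = ζ • (Y * T)) (hY : Function.Injective Y) (i : ℕ) :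
    finrank L (End.eigenspace T (ζ ^ i)) = finrank L (End.eigenspace T 1) := by
  have hmono : ∀ j : ℕ, finrank L (End.eigenspace T (ζ ^ j)) ≤
      finrank L (End.eigenspace T (ζ ^ (j + 1))) := by
    intro j
    have := heisA_finrank_le T Y ζ hTY hY (ζ ^ j)
    rwa [← pow_succ'] at this
  have hmono' : ∀ j k : ℕ, j ≤ k → finrank L (End.eigenspace T (ζ ^ j)) ≤
      finrank L (End.eigenspace T (ζ ^ k)) := by
    intro j k hjk
    induction k, hjk using Nat.le_induction with
    | base => exact le_rfl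
    | succ k _ ih => exact ih.trans (hmono k)
  have hper : ∀ j : ℕ, ζ ^ (j * s) = 1 := by
    intro j; rw [mul_comm, pow_mul, hζ, one_pow]
  apply le_antisymm
  · have h1 := hmono' i (i * s) (Nat.le_mul_of_pos_right i hs)
    rwa [hper] at h1
  · have h1 := hmono' 0 i (Nat.zero_le i)
    rwa [pow_zero] at h1

/-- the eigenspace decomposition of an operator with `T ^ s = 1` -/
theorem heisA_finrank_sum [IsAlgClosed L] [FiniteDimensional L W] (T : End L W) (ζ : L) (s : ℕ)
    [Fact s.Prime] (hsL : (s : L) ≠ 0) (hζ : ζ ^ s = 1) (hζ1 : ζ ≠ 1) (hT : T ^ s = 1) :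
    finrank L W = ∑ i : Fin s, finrank L (End.eigenspace T (ζ ^ (i : ℕ))) := by
  classical
  have hsp : s.Prime := Fact.out
  have : NeZero s := ⟨hsp.ne_zero⟩
  have hord : orderOf ζ = s := orderOf_eq_prime hζ hζ1
  have hprim : IsPrimitiveRoot ζ s := hord ▸ IsPrimitiveRoot.orderOf ζ
  -- semisimplicity
  have hsq : Squarefree (Polynomial.X ^ s - Polynomial.C (1 : L)) :=
    (Polynomial.separable_X_pow_sub_C (1 : L) hsL one_ne_zero).squarefree
  have haeval : Polynomial.aeval T (Polynomial.X ^ s - Polynomial.C (1 : L)) = 0 := by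
    simp [hT]
  have hss : T.IsSemisimple := End.isSemisimple_of_squarefree_aeval_eq_zero hsq haeval
  have htop : ⨆ μ, End.eigenspace T μ = ⊤ := hss.iSup_eigenspace_eq_top
  -- only the eigenvalues `ζ ^ i` occur
  have hle : ∀ μ : L, End.eigenspace T μ ≤ ⨆ i : Fin s, End.eigenspace T (ζ ^ (i : ℕ)) := by
    intro μ
    by_cases hbot : End.eigenspace T μ = ⊥
    · rw [hbot]; exact bot_le
    · obtain ⟨w, hw, hw0⟩ := (Submodule.ne_bot_iff _).mp hbot
      have hTw : T w = μ • w := End.mem_eigenspace_iff.mp hw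
      have hpow : ∀ k : ℕ, (T ^ k) w = μ ^ k • w := by
        intro k
        induction k with
        | zero => simp
        | succ k ih => rw [pow_succ', Module.End.mul_apply, ih, map_smul, hTw, smul_smul, pow_succ]
      have h1 := hpow s
      rw [hT, Module.End.one_apply] at h1
      have hμ : μ ^ s = 1 := by
        by_contra hne
        have h2 : (μ ^ s - 1) • w = 0 := by rw [sub_smul, one_smul, ← h1, sub_self]
        rcases smul_eq_zero.mp h2 with h3 | h3
        · exact hne (sub_eq_zero.mp h3)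
        · exact hw0 h3
      obtain ⟨i, hi, hiμ⟩ := hprim.eq_pow_of_pow_eq_one hμ
      rw [← hiμ]
      exact le_iSup (fun i : Fin s => End.eigenspace T (ζ ^ (i : ℕ))) ⟨i, hi⟩
  have htop' : ⨆ i : Fin s, End.eigenspace T (ζ ^ (i : ℕ)) = ⊤ := by
    rw [eq_top_iff, ← htop]
    exact iSup_le hle
  have hinj : Function.Injective (fun i : Fin s => ζ ^ (i : ℕ)) := by
    intro i j hij
    exact Fin.ext (hprim.pow_inj i.2 j.2 hij)
  have hind : iSupIndep (fun i : Fin s => End.eigenspace T (ζ ^ (i : ℕ))) :=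
    (End.eigenspaces_iSupIndep T).comp hinj
  have hint := DirectSum.isInternal_submodule_of_iSupIndep_of_iSup_eq_top hind htop'
  have e := LinearEquiv.ofBijective (DirectSum.coeLinearMap _) hint
  rw [← e.finrank_eq, Module.finrank_directSum]

/-- the dimension formula -/
theorem heisA_finrank [IsAlgClosed L] [FiniteDimensional L W] (T Y : End L W) (ζ : L) (s : ℕ)
    [Fact s.Prime] (hsL : (s : L) ≠ 0) (hζ : ζ ^ s = 1) (hζ1 : ζ ≠ 1) (hT : T ^ s = 1)
    (hTY : T * Y = ζ • (Y * T)) (hY : Function.Injective Y) :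
    finrank L W = s * finrank L (End.eigenspace T 1) := by
  have hsp : s.Prime := Fact.out
  rw [heisA_finrank_sum T ζ s hsL hζ hζ1 hT]
  have h1 : ∀ i : Fin s, finrank L (End.eigenspace T (ζ ^ (i : ℕ))) =
      finrank L (End.eigenspace T 1) :=
    fun i => heisA_finrank_pow T Y ζ s hsp.pos hζ hTY hY (i : ℕ)
  rw [Finset.sum_congr rfl (fun i _ => h1 i)]
  simp

end Cfsg.Agent.S3360L
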