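import Mathlib
import Cfsg.Agent.Lib.S3360.HeisA

/-! # S3360, Heisenberg lemma, part B: the commutator pairing -/

set_option autoImplicit false

namespace Cfsg.Agent.S3360L

open Module

universe u w

section

variable {L : Type*} [Field L] {W : Type w} [AddCommGroup W] [Module L W] [Nontrivial W]
  {H : Type u} [Group H] (ρ : H →* End L W) (hρ : Function.Injective ρ) (Z : Subgroup H)
  (hZs : ∀ z ∈ Z, ∃ c : L, ρ z = c • (1 : End L W))
  (hcomm : ∀ g h : H, g * h * g⁻¹ * h⁻¹ ∈ Z)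

include hρ hZs in
omit [Nontrivial W] in
theorem heisB_central {z : H} (hz : z ∈ Z) (g : H) : z * g = g * z := by
  apply hρ
  obtain ⟨c, hc⟩ := hZs z hz
  rw [map_mul, map_mul, hc]
  ext w
  simp

include hZs hcomm in
omit [Nontrivial W] in
/-- the scalar of a commutator -/
theorem heisB_exists_χ : ∃ χ : H → H → L, ∀ a b : H, ρ (a * b * a⁻¹ * b⁻¹) = χ a b • (1 : End L W) := by
  choose χ hχ using fun a b : H => hZs _ (hcomm a b)
  exact ⟨χ, hχ⟩

theorem heisB_smul_one_inj {c c' : L} (h : c • (1 : End L W) = c' • (1 : End L W)) : c = c' := by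
  obtain ⟨w, hw⟩ := exists_ne (0 : W)
  have h1 := LinearMap.congr_fun h w
  simp only [LinearMap.smul_apply, Module.End.one_apply] at h1
  by_contra hne
  have h2 : (c - c') • w = 0 := by rw [sub_smul, h1, sub_self]
  rcases smul_eq_zero.mp h2 with h3 | h3
  · exact hne (sub_eq_zero.mp h3)
  · exact hw h3

end

section

variable {L : Type*} [Field L] {W : Type w} [AddCommGroup W] [Module L W] [Nontrivial W]
  {H : Type u} [Group H] (ρ : H →* End L W) (hρ : Function.Injective ρ) (Z : Subgroup H)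
  (hZs : ∀ z ∈ Z, ∃ c : L, ρ z = c • (1 : End L W))
  (χ : H → H → L) (hχ : ∀ a b : H, ρ (a * b * a⁻¹ * b⁻¹) = χ a b • (1 : End L W))

include hχ in
omit [Nontrivial W] in
theorem heisB_rel (a b : H) : ρ a * ρ b = χ a b • (ρ b * ρ a) := by
  have h1 : a * b = (a * b * a⁻¹ * b⁻¹) * (b * a) := by group
  rw [← map_mul, h1, map_mul, hχ, map_mul]
  ext w
  simp

include hχ in
theorem heisB_χ_self (a : H) : χ a a = 1 := by
  have h1 : a * a * a⁻¹ * a⁻¹ = 1 := by group
  have h2 := hχ a a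
  rw [h1, map_one] at h2
  have h3 : (1 : L) • (1 : End L W) = χ a a • (1 : End L W) := by rw [one_smul]; exact h2
  exact (heisB_smul_one_inj h3).symm

include hρ hχ in
theorem heisB_χ_eq_one_iff (a b : H) : χ a b = 1 ↔ a * b = b * a := by
  constructor
  · intro h
    have h1 := hχ a b
    rw [h, one_smul, ← map_one ρ] at h1
    have h2 := hρ h1
    calc a * b = (a * b * a⁻¹ * b⁻¹) * (b * a) := by group
      _ = b * a := by rw [h2, one_mul]
  · intro h
    have h1 : a * b * a⁻¹ * b⁻¹ = 1 := by rw [h]; group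
    have h2 := hχ a b
    rw [h1, map_one] at h2
    have h3 : (1 : L) • (1 : End L W) = χ a b • (1 : End L W) := by rw [one_smul]; exact h2
    exact (heisB_smul_one_inj h3).symm

include hχ in
theorem heisB_χ_mul (a b c : H) : χ a (b * c) = χ a b * χ a c := by
  have h1 : a * (b * c) * a⁻¹ * (b * c)⁻¹ = (a * b * a⁻¹) * (a * c * a⁻¹ * c⁻¹) * b⁻¹ := by group
  have h2 := hχ a (b * c)
  rw [h1, map_mul, map_mul, hχ a c] at h2
  have h3 : ρ (a * b * a⁻¹) * χ a c • (1 : End L W) * ρ b⁻¹ = χ a c • ρ (a * b * a⁻¹ * b⁻¹) := by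
    rw [map_mul (f := ρ) (a * b * a⁻¹) b⁻¹]
    ext w
    simp
  rw [h3, hχ a b, smul_smul] at h2
  have := heisB_smul_one_inj h2
  rw [← this, mul_comm]

include hχ in
theorem heisB_χ_one (a : H) : χ a 1 = 1 := by
  have h := heisB_χ_mul ρ χ hχ a 1 1
  rw [mul_one] at h
  have h0 : χ a 1 ≠ 0 := by
    intro h0
    have h2 := hχ a 1
    rw [h0, zero_smul] at h2
    have h1 : a * 1 * a⁻¹ * 1⁻¹ = 1 := by group
    rw [h1, map_one] at h2
    exact one_ne_zero (α := End L W) h2
  exact (mul_eq_left₀ h0).mp h.symm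

include hχ in
theorem heisB_χ_ne_zero (a b : H) : χ a b ≠ 0 := by
  intro h0
  have h1 := heisB_χ_mul ρ χ hχ a b b⁻¹
  rw [mul_inv_cancel, heisB_χ_one ρ χ hχ, h0, zero_mul] at h1
  exact one_ne_zero h1

include hχ in
theorem heisB_χ_pow (a b : H) (k : ℕ) : χ a (b ^ k) = χ a b ^ k := by
  induction k with
  | zero => rw [pow_zero, pow_zero]; exact heisB_χ_one ρ χ hχ a
  | succ k ih => rw [pow_succ, heisB_χ_mul ρ χ hχ, ih, pow_succ]

include hχ in
theorem heisB_χ_swap (a b : H) : χ b a = (χ a b)⁻¹ := by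
  have h1 : b * a * b⁻¹ * a⁻¹ = (a * b * a⁻¹ * b⁻¹)⁻¹ := by group
  have h2 := hχ b a
  have h3 : ρ (a * b * a⁻¹ * b⁻¹) * ρ ((a * b * a⁻¹ * b⁻¹)⁻¹) = 1 := by
    rw [← map_mul, mul_inv_cancel, map_one]
  rw [← h1, h2, hχ a b] at h3
  have h4 : (χ a b * χ b a) • (1 : End L W) = (1 : L) • (1 : End L W) := by
    have h5 : χ a b • (1 : End L W) * χ b a • (1 : End L W) = (χ a b * χ b a) • (1 : End L W) := by
      rw [smul_mul_smul_comm, mul_one]
    rw [← h5, h3, one_smul]
  have h5 := heisB_smul_one_inj h4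
  exact eq_inv_of_mul_eq_one_right h5

end

end Cfsg.Agent.S3360L
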