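import Mathlib
import Cfsg.Agent.Lib.S3360.HeisB

/-! # S3360, Heisenberg lemma, part C: index of the double centralizer and decomposition -/

set_option autoImplicit false

namespace Cfsg.Agent.S3360L

open Module

universe u w

section

variable {L : Type*} [Field L] {W : Type w} [AddCommGroup W] [Module L W] [Nontrivial W]
  {H : Type u} [Group H] (ρ : H →* End L W) (hρ : Function.Injective ρ)
  (χ : H → H → L) (hχ : ∀ a b : H, ρ (a * b * a⁻¹ * b⁻¹) = χ a b • (1 : End L W))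

/-- the homomorphism `g ↦ χ a g` into the units -/
noncomputable def heisφ (a : H) : H →* Lˣ where
  toFun g := Units.mk0 (χ a g) (heisB_χ_ne_zero ρ χ hχ a g)
  map_one' := by
    apply Units.ext
    simp [heisB_χ_one ρ χ hχ a]
  map_mul' g h := by
    apply Units.ext
    simp [heisB_χ_mul ρ χ hχ a g h]

theorem heisφ_apply (a g : H) : ((heisφ ρ χ hχ a g : Lˣ) : L) = χ a g := rfl

include hρ in
theorem heisφ_ker (a : H) : (heisφ ρ χ hχ a).ker = Subgroup.centralizer {a} := by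
  ext g
  rw [MonoidHom.mem_ker, Subgroup.mem_centralizer_singleton_iff, Units.ext_iff, heisφ_apply,
    Units.val_one, heisB_χ_eq_one_iff ρ hρ χ hχ]
  constructor
  · intro h; exact h.symm
  · intro h; exact h.symm

include hρ hχ in
theorem heisC_index_dvd [Finite H] (s : ℕ) [Fact s.Prime] (ζ : L) (hζ : ζ ^ s = 1) (hζ1 : ζ ≠ 1)
    (x y : H) (hx : ∀ g, χ x g ^ s = 1) (hy : ∀ g, χ y g ^ s = 1) :
    (Subgroup.centralizer {x} ⊓ Subgroup.centralizer {y} : Subgroup H).index ∣ s ^ 2 := by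
  have hsp : s.Prime := Fact.out
  have : NeZero s := ⟨hsp.ne_zero⟩
  have hord : orderOf ζ = s := orderOf_eq_prime hζ hζ1
  have hprim : IsPrimitiveRoot ζ s := hord ▸ IsPrimitiveRoot.orderOf ζ
  have hcardμ : Nat.card (rootsOfUnity s L) = s := hprim.card_rootsOfUnity
  let Φ : H →* Lˣ × Lˣ := (heisφ ρ χ hχ x).prod (heisφ ρ χ hχ y)
  have hker : Φ.ker = Subgroup.centralizer {x} ⊓ Subgroup.centralizer {y} := by
    rw [← heisφ_ker ρ hρ χ hχ x, ← heisφ_ker ρ hρ χ hχ y]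
    ext g
    simp only [MonoidHom.mem_ker, Subgroup.mem_inf, Φ, MonoidHom.prod_apply, Prod.mk_eq_one]
  rw [← hker, Subgroup.index_ker]
  have hle : Φ.range ≤ (rootsOfUnity s L).prod (rootsOfUnity s L) := by
    rintro _ ⟨g, rfl⟩
    rw [Subgroup.mem_prod]
    refine ⟨?_, ?_⟩
    · rw [mem_rootsOfUnity]
      apply Units.ext
      rw [Units.val_pow_eq_pow_val, Units.val_one]
      exact hx g
    · rw [mem_rootsOfUnity]
      apply Units.ext
      rw [Units.val_pow_eq_pow_val, Units.val_one]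
      exact hy g
  have hfin : Finite (rootsOfUnity s L) := Nat.finite_of_card_ne_zero (by rw [hcardμ]; exact hsp.ne_zero)
  have hcardprod : Nat.card ((rootsOfUnity s L).prod (rootsOfUnity s L)) = s ^ 2 := by
    rw [Nat.card_congr (Subgroup.prodEquiv (rootsOfUnity s L) (rootsOfUnity s L)).toEquiv,
      Nat.card_prod, hcardμ, sq]
  rw [← hcardprod]
  exact Subgroup.card_dvd_of_le hle

include hρ hχ in
theorem heisC_decomp (s : ℕ) [Fact s.Prime] (x y : H) (hζ : χ x y ^ s = 1) (hζ1 : χ x y ≠ 1)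
    (hx : ∀ g, χ x g ^ s = 1) (hy : ∀ g, χ y g ^ s = 1) (g : H) :
    ∃ i j : ℕ, x ^ i * y ^ j * g ∈
      (Subgroup.centralizer {x} ⊓ Subgroup.centralizer {y} : Subgroup H) := by
  have hsp : s.Prime := Fact.out
  have : NeZero s := ⟨hsp.ne_zero⟩
  have hord : orderOf (χ x y) = s := orderOf_eq_prime hζ hζ1
  have hprim : IsPrimitiveRoot (χ x y) s := hord ▸ IsPrimitiveRoot.orderOf (χ x y)
  obtain ⟨a, ha, hag⟩ := hprim.eq_pow_of_pow_eq_one (hx g)
  obtain ⟨b, hb, hbg⟩ := hprim.eq_pow_of_pow_eq_one (hy g)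
  refine ⟨b, s - a, ?_⟩
  rw [Subgroup.mem_inf, Subgroup.mem_centralizer_singleton_iff,
    Subgroup.mem_centralizer_singleton_iff]
  constructor
  · rw [eq_comm, ← heisB_χ_eq_one_iff ρ hρ χ hχ, heisB_χ_mul ρ χ hχ, heisB_χ_mul ρ χ hχ,
      heisB_χ_pow ρ χ hχ, heisB_χ_pow ρ χ hχ, heisB_χ_self ρ χ hχ, one_pow, one_mul, ← hag,
      ← pow_add, Nat.sub_add_cancel ha.le, hζ]
  · rw [eq_comm, ← heisB_χ_eq_one_iff ρ hρ χ hχ, heisB_χ_mul ρ χ hχ, heisB_χ_mul ρ χ hχ,
      heisB_χ_pow ρ χ hχ, heisB_χ_pow ρ χ hχ, heisB_χ_self ρ χ hχ, one_pow, mul_one,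
      heisB_χ_swap ρ χ hχ x y, ← hbg, inv_pow]
    exact inv_mul_cancel₀ (pow_ne_zero _ (heisB_χ_ne_zero ρ χ hχ x y))

end

end Cfsg.Agent.S3360L
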