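import Mathlib
import Cfsg.Agent.Lib.S3360.HeisC

/-! # S3360, Heisenberg lemma, part D: the induction (algebraically closed case) -/

set_option autoImplicit false

namespace Cfsg.Agent.S3360L

open Module

universe u w

theorem heis_closed {L : Type*} [Field L] [IsAlgClosed L] (s : ℕ) [Fact s.Prime] (hsL : (s : L) ≠ 0)
    (N : ℕ) : ∀ {W : Type w} [AddCommGroup W] [Module L W] [FiniteDimensional L W] [Nontrivial W]
    {H : Type u} [Group H] [Finite H] (ρ : H →* End L W) (_ : Function.Injective ρ)
    (Z : Subgroup H), Nat.card H ≤ N →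
    (∀ z ∈ Z, ∃ c : L, ρ z = c • (1 : End L W)) →
    (∀ h : H, (∀ g, h * g = g * h) → h ∈ Z) →
    (∀ h : H, h ^ s ∈ Z) →
    (∀ g h : H, g * h * g⁻¹ * h⁻¹ ∈ Z) →
    Z.index ∣ (finrank L W) ^ 2 := by
  have hsp : s.Prime := Fact.out
  induction N with
  | zero =>
    intro W _ _ _ _ H _ _ ρ hρ Z hN
    exfalso
    have := Nat.card_pos (α := H)
    omega
  | succ N ih =>
    intro W _ _ _ _ H _ _ ρ hρ Z hN hZs hcen hexp hcomm
    by_cases hZtop : Z = ⊤
    · rw [hZtop, Subgroup.index_top]; exact one_dvd _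
    obtain ⟨x, hxZ⟩ : ∃ x, x ∉ Z := by
      by_contra h
      push Not at h
      exact hZtop (eq_top_iff.mpr fun g _ => h g)
    obtain ⟨y, hxy⟩ : ∃ y, x * y ≠ y * x := by
      by_contra h
      push Not at h
      exact hxZ (hcen x h)
    obtain ⟨χ, hχ⟩ := heisB_exists_χ ρ Z hZs hcomm
    have hZc : ∀ z ∈ Z, ∀ g, z * g = g * z := fun z hz g => heisB_central ρ hρ Z hZs hz g
    have hχs : ∀ a g : H, χ a g ^ s = 1 := by
      intro a g
      rw [← heisB_χ_pow ρ χ hχ, heisB_χ_eq_one_iff ρ hρ χ hχ]
      exact (hZc _ (hexp g) a).symm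
    have hζ1 : χ x y ≠ 1 := fun h => hxy ((heisB_χ_eq_one_iff ρ hρ χ hχ x y).mp h)
    have hζs : χ x y ^ s = 1 := hχs x y
    -- the operator `T`
    obtain ⟨a₀, ha₀⟩ := hZs _ (hexp x)
    have ha₀0 : a₀ ≠ 0 := by
      intro h0
      rw [h0, zero_smul] at ha₀
      have h1 : ρ (x ^ s) * ρ ((x ^ s)⁻¹) = 1 := by rw [← map_mul, mul_inv_cancel, map_one]
      rw [ha₀, zero_mul] at h1
      exact zero_ne_one (α := End L W) h1
    obtain ⟨c₀, hc₀⟩ := IsAlgClosed.exists_pow_nat_eq a₀ hsp.pos
    have hc₀0 : c₀ ≠ 0 := by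
      rintro rfl
      rw [zero_pow hsp.ne_zero] at hc₀
      exact ha₀0 hc₀.symm
    set T : End L W := c₀⁻¹ • ρ x with hTdef
    have hT : T ^ s = 1 := by
      rw [hTdef, smul_pow, ← map_pow, ha₀, smul_smul, inv_pow, hc₀, inv_mul_cancel₀ ha₀0, one_smul]
    have hTY : T * ρ y = χ x y • (ρ y * T) := by
      rw [hTdef, smul_mul_assoc, heisB_rel ρ χ hχ x y, mul_smul_comm, smul_comm]
    have hinj : ∀ g : H, Function.Injective (ρ g) := by
      intro g a b hab
      have h1 : ρ g⁻¹ (ρ g a) = ρ g⁻¹ (ρ g b) := by rw [hab]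
      have h2 : ∀ w, ρ g⁻¹ (ρ g w) = w := by
        intro w
        have : ρ g⁻¹ * ρ g = 1 := by rw [← map_mul, inv_mul_cancel, map_one]
        exact LinearMap.congr_fun this w
      rwa [h2, h2] at h1
    have hdim : finrank L W = s * finrank L (End.eigenspace T 1) :=
      heisA_finrank T (ρ y) (χ x y) s hsL hζs hζ1 hT hTY (hinj y)
    have hEpos : 0 < finrank L (End.eigenspace T 1) := by
      have h1 : 0 < finrank L W := Module.finrank_pos
      rw [hdim] at h1
      exact Nat.pos_of_mul_pos_left h1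
    have hEnt : Nontrivial (End.eigenspace T 1) := Module.finrank_pos_iff.mp hEpos
    -- the subgroup `H₁`
    set H₁ : Subgroup H := Subgroup.centralizer {x} ⊓ Subgroup.centralizer {y} with hH₁
    have hmem : ∀ h : H, h ∈ H₁ ↔ h * x = x * h ∧ h * y = y * h := by
      intro h
      rw [hH₁, Subgroup.mem_inf, Subgroup.mem_centralizer_singleton_iff,
        Subgroup.mem_centralizer_singleton_iff]
    have hidx : H₁.index ∣ s ^ 2 :=
      heisC_index_dvd ρ hρ χ hχ s (χ x y) hζs hζ1 x y (hχs x) (hχs y)
    have hZH₁ : Z ≤ H₁ := by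
      intro z hz
      rw [hmem]
      exact ⟨hZc z hz x, hZc z hz y⟩
    -- `H₁` preserves the eigenspace
    have hcommT : ∀ h ∈ H₁, ∀ w, T (ρ h w) = ρ h (T w) := by
      intro h hh w
      have h1 : ρ x * ρ h = ρ h * ρ x := by
        rw [← map_mul, ← map_mul, ((hmem h).mp hh).1]
      have h2 := LinearMap.congr_fun h1 w
      simp only [hTdef, LinearMap.smul_apply, map_smul]
      exact congrArg (c₀⁻¹ • ·) h2
    have hpres : ∀ h ∈ H₁, ∀ w ∈ End.eigenspace T 1, ρ h w ∈ End.eigenspace T 1 := by
      intro h hh w hw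
      rw [End.mem_eigenspace_iff] at hw ⊢
      rw [hcommT h hh, hw, map_smul]
    let ρ₁ : H₁ →* End L (End.eigenspace T 1) :=
      { toFun := fun h => (ρ h).restrict (hpres h h.2)
        map_one' := by
          ext w
          simp
        map_mul' := by
          intro g h
          ext w
          simp }
    have hρ₁app : ∀ (h : H₁) (w : End.eigenspace T 1), ((ρ₁ h w : End.eigenspace T 1) : W) = ρ h w :=
      fun h w => rfl
    -- centre of `H₁`
    have hcen₁ : ∀ h : H₁, (∀ g : H₁, h * g = g * h) → (h : H) ∈ Z := by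
      intro h hh
      apply hcen
      intro g
      obtain ⟨i, j, hij⟩ := heisC_decomp ρ hρ χ hχ s x y hζs hζ1 (hχs x) (hχs y) g
      have h1 := congrArg Subtype.val (hh ⟨_, hij⟩)
      simp only [Subgroup.coe_mul] at h1
      obtain ⟨hhx, hhy⟩ := (hmem h).mp h.2
      have hxi : (h : H) * x ^ i = x ^ i * h := (Commute.pow_right (show Commute (h : H) x from hhx) i).eq
      have hyj : (h : H) * y ^ j = y ^ j * h := (Commute.pow_right (show Commute (h : H) y from hhy) j).eq
      have h2 : x ^ i * y ^ j * ((h : H) * g) = x ^ i * y ^ j * (g * h) := by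
        calc x ^ i * y ^ j * ((h : H) * g) = (h : H) * (x ^ i * y ^ j * g) := by
              rw [← mul_assoc, mul_assoc (x ^ i), ← hyj, ← mul_assoc, ← hxi]; group
          _ = x ^ i * y ^ j * g * h := h1
          _ = x ^ i * y ^ j * (g * h) := by group
      exact mul_left_cancel h2
    -- faithfulness of `ρ₁`
    have hρ₁ : Function.Injective ρ₁ := by
      rw [injective_iff_map_eq_one]
      intro h hh1
      have hfix : ∀ w ∈ End.eigenspace T 1, ρ h w = w := by
        intro w hw
        have := congrArg (fun f : End L (End.eigenspace T 1) => ((f ⟨w, hw⟩ : End.eigenspace T 1) : W)) hh1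
        simpa [hρ₁app] using this
      have hfix' : ∀ w ∈ End.eigenspace T 1, ρ (h : H)⁻¹ w = w := by
        intro w hw
        have h1 : ρ (h : H)⁻¹ (ρ h w) = w := by
          have : ρ (h : H)⁻¹ * ρ h = 1 := by rw [← map_mul, inv_mul_cancel, map_one]
          exact LinearMap.congr_fun this w
        rwa [hfix w hw] at h1
      obtain ⟨w₀, hw₀⟩ := exists_ne (0 : End.eigenspace T 1)
      have hw₀' : (w₀ : W) ≠ 0 := fun h0 => hw₀ (Subtype.ext h0)
      have hcentral : ∀ g : H₁, h * g = g * h := by
        intro g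
        apply Subtype.ext
        simp only [Subgroup.coe_mul]
        rw [← heisB_χ_eq_one_iff ρ hρ χ hχ]
        have h1 := LinearMap.congr_fun (hχ (h : H) (g : H)) (w₀ : W)
        simp only [map_mul, Module.End.mul_apply, LinearMap.smul_apply, Module.End.one_apply] at h1
        have hg' : ρ (g : H)⁻¹ (w₀ : W) ∈ End.eigenspace T 1 :=
          hpres _ (inv_mem g.2) _ w₀.2
        rw [hfix' _ hg'] at h1
        have h3 : ρ (g : H) (ρ (g : H)⁻¹ (w₀ : W)) = w₀ := by
          have : ρ (g : H) * ρ (g : H)⁻¹ = 1 := by rw [← map_mul, mul_inv_cancel, map_one]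
          exact LinearMap.congr_fun this w₀
        rw [h3, hfix _ w₀.2] at h1
        by_contra hne
        have h4 : (χ (h : H) (g : H) - 1) • (w₀ : W) = 0 := by rw [sub_smul, one_smul, ← h1, sub_self]
        rcases smul_eq_zero.mp h4 with h5 | h5
        · exact hne (sub_eq_zero.mp h5)
        · exact hw₀' h5
      have hhZ : (h : H) ∈ Z := hcen₁ h hcentral
      obtain ⟨c, hc⟩ := hZs _ hhZ
      have hc1 : c = 1 := by
        have h1 := LinearMap.congr_fun hc (w₀ : W)
        rw [hfix _ w₀.2] at h1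
        simp only [LinearMap.smul_apply, Module.End.one_apply] at h1
        by_contra hne
        have h4 : (c - 1) • (w₀ : W) = 0 := by rw [sub_smul, one_smul, ← h1, sub_self]
        rcases smul_eq_zero.mp h4 with h5 | h5
        · exact hne (sub_eq_zero.mp h5)
        · exact hw₀' h5
      rw [hc1, one_smul, ← map_one ρ] at hc
      exact Subtype.ext (hρ hc)
    -- cardinality of `H₁`
    have hcard₁ : Nat.card H₁ ≤ N := by
      have hlt : H₁ ≠ ⊤ := by
        intro htop
        have : y ∈ H₁ := htop ▸ Subgroup.mem_top y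
        exact hxy ((hmem y).mp this).1.symm
      have h1 : Nat.card H₁ < Nat.card H := by
        have h2 := Subgroup.card_le_card_group H₁
        rcases h2.lt_or_eq with h3 | h3
        · exact h3
        · exact absurd (Subgroup.card_eq_iff_eq_top H₁ |>.mp h3) hlt
      omega
    -- apply the induction hypothesis
    have key := ih (W := End.eigenspace T 1) (H := H₁) ρ₁ hρ₁ (Z.subgroupOf H₁) hcard₁
      (by
        intro z hz
        obtain ⟨c, hc⟩ := hZs _ (Subgroup.mem_subgroupOf.mp hz)
        refine ⟨c, ?_⟩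
        ext w
        rw [hρ₁app, hc]
        simp)
      (by
        intro h hh
        exact Subgroup.mem_subgroupOf.mpr (hcen₁ h hh))
      (by
        intro h
        rw [Subgroup.mem_subgroupOf]
        simpa using hexp (h : H))
      (by
        intro g h
        rw [Subgroup.mem_subgroupOf]
        simpa using hcomm (g : H) (h : H))
    have hrel : Z.index = (Z.subgroupOf H₁).index * H₁.index := by
      have := Subgroup.relIndex_mul_index hZH₁
      rw [← this]; rfl
    rw [hrel, hdim, mul_pow, mul_comm (s ^ 2)]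
    exact Nat.mul_dvd_mul key hidx

end Cfsg.Agent.S3360L
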