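import Mathlib
import Cfsg.Agent.Lib.S3360.HeisD

/-! # S3360, Heisenberg lemma, part E: arbitrary fields (base change to the algebraic closure) -/

set_option autoImplicit false

namespace Cfsg.Agent.S3360L

open Module TensorProduct

universe u w

/-- **Heisenberg lemma.** A finite group `H` acting faithfully and linearly on `V`, with a subgroup
`Z ⊇ Z(H)` acting by scalars, `H/Z` abelian of exponent `s`: then `|H : Z|` divides `(dim V)²`. -/
theorem heis {K : Type*} [Field K] {V : Type w} [AddCommGroup V] [Module K V]
    [FiniteDimensional K V] [Nontrivial V] {H : Type u} [Group H] [Finite H]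
    (s : ℕ) [Fact s.Prime] (hsK : (s : K) ≠ 0)
    (ρ : H →* End K V) (hρ : Function.Injective ρ) (Z : Subgroup H)
    (hZs : ∀ z ∈ Z, ∃ c : K, ρ z = c • (1 : End K V))
    (hcen : ∀ h : H, (∀ g, h * g = g * h) → h ∈ Z)
    (hexp : ∀ h : H, h ^ s ∈ Z)
    (hcomm : ∀ g h : H, g * h * g⁻¹ * h⁻¹ ∈ Z) :
    Z.index ∣ (finrank K V) ^ 2 := by
  let L := AlgebraicClosure K
  let ρL : H →* End L (L ⊗[K] V) :=
    { toFun := fun h => (ρ h).baseChange L
      map_one' := by
        rw [map_one]
        exact LinearMap.baseChange_id
      map_mul' := by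
        intro g h
        rw [map_mul]
        exact LinearMap.baseChange_comp (A := L) (ρ h) (ρ g) }
  have hρL : Function.Injective ρL := by
    intro g h hgh
    apply hρ
    have h1 : LinearMap.baseChangeHom K L V V (ρ g) = LinearMap.baseChangeHom K L V V (ρ h) := hgh
    exact LinearMap.baseChangeHom_injective K V L h1
  have hsL : (s : L) ≠ 0 := by
    intro h0
    apply hsK
    have h1 : algebraMap K L (s : K) = 0 := by rw [map_natCast]; exact h0
    exact (map_eq_zero (algebraMap K L)).mp h1
  have hnt : Nontrivial (L ⊗[K] V) := by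
    have hpos : 0 < finrank L (L ⊗[K] V) := by
      rw [Module.finrank_baseChange]
      exact Module.finrank_pos
    exact Module.finrank_pos_iff.mp hpos
  have key := heis_closed (L := L) s hsL (Nat.card H) (W := L ⊗[K] V) (H := H) ρL hρL Z le_rfl
    (by
      intro z hz
      obtain ⟨c, hc⟩ := hZs z hz
      refine ⟨algebraMap K L c, ?_⟩
      show (ρ z).baseChange L = _
      rw [hc]
      ext v
      simp [TensorProduct.smul_tmul'])
    hcen hexp hcomm
  rwa [Module.finrank_baseChange] at key

end Cfsg.Agent.S3360L
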