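import Mathlib

/-! # S3360: fixed point congruence for conjugation by an element of prime order -/

set_option autoImplicit false

namespace Cfsg.Agent.S3360L

variable {G : Type*} [Group G]

/-- conjugation by an element of prime order `r` on a normalized finite subgroup `B`:
`|B| ≡ |C_B(x)|` modulo `r` -/
theorem conj_card_modEq (x : G) (r : ℕ) (hr : r.Prime) (hx : x ^ r = 1) (B : Subgroup G)
    [Finite B] (hB : ∀ b ∈ B, x * b * x⁻¹ ∈ B) :
    Nat.card B ≡ Nat.card (B ⊓ Subgroup.centralizer {x} : Subgroup G) [MOD r] := by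
  classical
  have : Fact r.Prime := ⟨hr⟩
  have : Fintype B := Fintype.ofFinite _
  let f : Function.End B := fun b => ⟨x * b.1 * x⁻¹, hB b.1 b.2⟩
  have hfpow : ∀ k : ℕ, ∀ b : B, ((f ^ k) b).1 = x ^ k * b.1 * (x ^ k)⁻¹ := by
    intro k
    induction k with
    | zero =>
      intro b
      rw [pow_zero, pow_zero, one_mul, inv_one, mul_one]
      rfl
    | succ k ih =>
      intro b
      rw [pow_succ']
      change (f ((f ^ k) b)).1 = _
      change x * ((f ^ k) b).1 * x⁻¹ = _
      rw [ih b, pow_succ']
      group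
  have hf : f ^ r ^ 1 = 1 := by
    rw [pow_one]
    funext b
    apply Subtype.ext
    rw [hfpow, hx, one_mul, inv_one, mul_one]
    rfl
  have h := Equiv.Perm.card_fixedPoints_modEq (f := f) hf
  rw [Fintype.card_eq_nat_card, Fintype.card_eq_nat_card] at h
  have e : Function.fixedPoints f ≃ (B ⊓ Subgroup.centralizer {x} : Subgroup G) :=
    { toFun := fun b => ⟨b.1.1, Subgroup.mem_inf.2 ⟨b.1.2, by
        have h1 : f b.1 = b.1 := b.2
        have h2 : x * b.1.1 * x⁻¹ = b.1.1 := congrArg Subtype.val h1
        rw [Subgroup.mem_centralizer_singleton_iff]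
        calc b.1.1 * x = (x * b.1.1 * x⁻¹) * x := by rw [h2]
          _ = x * b.1.1 := by group⟩⟩
      invFun := fun b => ⟨⟨b.1, (Subgroup.mem_inf.1 b.2).1⟩, by
        have h1 := (Subgroup.mem_inf.1 b.2).2
        rw [Subgroup.mem_centralizer_singleton_iff] at h1
        change f ⟨b.1, _⟩ = ⟨b.1, _⟩
        apply Subtype.ext
        change x * b.1 * x⁻¹ = b.1
        rw [← h1]
        group⟩
      left_inv := fun b => rfl
      right_inv := fun b => rfl }
  rw [Nat.card_congr e] at h
  exact h

end Cfsg.Agent.S3360L
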