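import Mathlib
import Cfsg.Agent.Lib.S3360.PpdC
import Cfsg.Agent.Lib.S3360.BSup

/-! # S3360, main chain, part A: the extraspecial-type subgroup `B` over `A` (pure group theory) -/

set_option autoImplicit false
set_option linter.style.haveILetI false

namespace Cfsg.Agent.S3360L

universe u

variable {G : Type u} [Group G]

/-- `B/A` is elementary abelian of exponent `s`, `A` is central in `B` and `Z(B) ≤ A`. -/
structure BProp (A B : Subgroup G) (s : ℕ) : Prop where
  prime : s.Prime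
  normal : B.Normal
  lt : A < B
  cent : ∀ b ∈ B, ∀ a ∈ A, b * a = a * b
  exp : ∀ b ∈ B, b ^ s ∈ A
  comm : ∀ b ∈ B, ∀ c ∈ B, b * c * b⁻¹ * c⁻¹ ∈ A
  center : ∀ b ∈ B, (∀ c ∈ B, b * c = c * b) → b ∈ A

variable {A B : Subgroup G} {s : ℕ}

theorem BProp.exists_noncomm (h : BProp A B s) : ∃ b ∈ B, ∃ c ∈ B, b * c ≠ c * b := by
  obtain ⟨b, hbB, hbA⟩ := Set.exists_of_ssubset h.lt
  by_contra hcon
  push Not at hcon
  exact hbA (h.center b hbB (fun c hc => hcon b hbB c hc))

theorem BProp.exists_z (h : BProp A B s) : ∃ z ∈ A, z ≠ 1 ∧ z ^ s = 1 := by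
  obtain ⟨b, hb, c, hc, hbc⟩ := h.exists_noncomm
  have hz : b * c * b⁻¹ * c⁻¹ ∈ A := h.comm b hb c hc
  refine ⟨b * c * b⁻¹ * c⁻¹, hz, ?_, ?_⟩
  · intro h1
    apply hbc
    have h2 : b * c = (b * c * b⁻¹ * c⁻¹) * (c * b) := by group
    rw [h2, h1, one_mul]
  · generalize hzdef : b * c * b⁻¹ * c⁻¹ = z at hz
    have hzb : b * z = z * b := h.cent b hb z hz
    have hbcb : b * c * b⁻¹ = z * c := by rw [← hzdef]; group
    have key : ∀ j : ℕ, b ^ j * c * (b ^ j)⁻¹ = z ^ j * c := by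
      intro j
      induction j with
      | zero => simp
      | succ j ih =>
        have hzjb : b * z ^ j = z ^ j * b := (Commute.pow_right (show Commute b z from hzb) j)
        calc b ^ (j + 1) * c * (b ^ (j + 1))⁻¹ = b * (b ^ j * c * (b ^ j)⁻¹) * b⁻¹ := by
              rw [pow_succ']; group
          _ = b * (z ^ j * c) * b⁻¹ := by rw [ih]
          _ = z ^ j * (b * c * b⁻¹) := by
              rw [← mul_assoc, hzjb]; group
          _ = z ^ j * (z * c) := by rw [hbcb]
          _ = z ^ (j + 1) * c := by rw [pow_succ, mul_assoc]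
    have h1 := key s
    have hbs : b ^ s ∈ A := h.exp b hb
    have h2 : c * b ^ s = b ^ s * c := h.cent c hc _ hbs
    rw [← h2, mul_assoc, mul_inv_cancel, mul_one] at h1
    have h3 : z ^ s * c = 1 * c := by rw [one_mul]; exact h1.symm
    exact mul_right_cancel h3

theorem BProp.subgroupOf_normal (h : BProp A B s) : (A.subgroupOf B).Normal := by
  constructor
  intro a ha b
  rw [Subgroup.mem_subgroupOf] at ha ⊢
  have h1 := h.cent b.1 b.2 a.1 ha
  have e : ((b * a * b⁻¹ : B) : G) = a.1 := by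
    push_cast
    rw [h1]
    group
  rw [e]
  exact ha

theorem BProp.relIndex_eq_pow [Finite G] (h : BProp A B s) : ∃ t, A.relIndex B = s ^ t := by
  haveI : Fact s.Prime := ⟨h.prime⟩
  haveI hN : (A.subgroupOf B).Normal := h.subgroupOf_normal
  have hp : IsPGroup s (↥B ⧸ A.subgroupOf B) := by
    intro x
    obtain ⟨b, rfl⟩ := QuotientGroup.mk_surjective x
    refine ⟨1, ?_⟩
    rw [pow_one, ← QuotientGroup.mk_pow, QuotientGroup.eq_one_iff, Subgroup.mem_subgroupOf]
    exact h.exp b.1 b.2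
  obtain ⟨t, ht⟩ := IsPGroup.iff_card.mp hp
  exact ⟨t, by rw [Subgroup.relIndex, Subgroup.index_eq_card, ht]⟩

theorem BProp.relIndex_ne_one (h : BProp A B s) : A.relIndex B ≠ 1 := by
  intro h1
  rw [Subgroup.relIndex_eq_one] at h1
  exact (not_le_of_gt h.lt) h1

theorem BProp.relIndex_ne_prime [Finite G] (h : BProp A B s) (p : ℕ) (hp : p.Prime) :
    A.relIndex B ≠ p := by
  intro hidx
  haveI : Fact p.Prime := ⟨hp⟩
  haveI hN : (A.subgroupOf B).Normal := h.subgroupOf_normal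
  have hcard : Nat.card (↥B ⧸ A.subgroupOf B) = p := by
    rw [← Subgroup.index_eq_card]; exact hidx
  obtain ⟨b, hbB, hbA⟩ := Set.exists_of_ssubset h.lt
  apply hbA
  apply h.center b hbB
  intro c hc
  have hb1 : (QuotientGroup.mk (⟨b, hbB⟩ : B) : ↥B ⧸ A.subgroupOf B) ≠ 1 := by
    intro h1
    rw [QuotientGroup.eq_one_iff, Subgroup.mem_subgroupOf] at h1
    exact hbA h1
  have hmem : (QuotientGroup.mk (⟨c, hc⟩ : B) : ↥B ⧸ A.subgroupOf B) ∈
      Subgroup.zpowers (QuotientGroup.mk (⟨b, hbB⟩ : B) : ↥B ⧸ A.subgroupOf B) := by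
    rw [zpowers_eq_top_of_prime_card hcard hb1]
    exact Subgroup.mem_top _
  obtain ⟨i, hi⟩ := Subgroup.mem_zpowers_iff.mp hmem
  rw [← QuotientGroup.mk_zpow, QuotientGroup.eq, Subgroup.mem_subgroupOf] at hi
  have hi' : (b ^ i)⁻¹ * c ∈ A := by simpa using hi
  obtain ⟨a, ha, hca⟩ : ∃ a ∈ A, c = b ^ i * a := ⟨_, hi', by group⟩
  have h1 : b * a = a * b := h.cent b hbB _ ha
  have h2 : b * b ^ i = b ^ i * b := ((Commute.refl b).zpow_right i)
  rw [hca, ← mul_assoc, h2, mul_assoc, h1, mul_assoc]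

/-- **M5.** -/
theorem BProp.ppd_dvd [Finite G] (h : BProp A B s) (x : G) (r : ℕ) (hr : r.Prime)
    (hx : x ^ r = 1) (hxA : ∀ a ∈ A, x * a = a * x) (hxB : ¬ ∀ b ∈ B, x * b = b * x)
    (hrA : ¬ r ∣ Nat.card A) (t : ℕ) (ht : A.relIndex B = s ^ t) :
    ∃ e, 1 ≤ e ∧ e ≤ t ∧ r ∣ s ^ e - 1 ∧
      Nat.card (B ⊓ Subgroup.centralizer {x} : Subgroup G) * s ^ e = Nat.card B := by
  haveI := h.normal
  set C : Subgroup G := B ⊓ Subgroup.centralizer {x} with hC
  have hAC : A ≤ C := by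
    intro a ha
    refine ⟨h.lt.le ha, ?_⟩
    show a ∈ Subgroup.centralizer {x}
    rw [Subgroup.mem_centralizer_iff]
    intro y hy
    rw [Set.mem_singleton_iff] at hy
    subst hy
    exact hxA a ha
  have hCB : C ≤ B := inf_le_left
  have hmul : A.relIndex C * C.relIndex B = s ^ t := by
    rw [Subgroup.relIndex_mul_relIndex A C B hAC hCB, ht]
  obtain ⟨e, het, hCe⟩ := (Nat.dvd_prime_pow h.prime).mp (Dvd.intro_left _ hmul)
  obtain ⟨f, hft, hAf⟩ := (Nat.dvd_prime_pow h.prime).mp (Dvd.intro _ hmul)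
  have he1 : 1 ≤ e := by
    rcases Nat.eq_zero_or_pos e with h0 | h0
    · exfalso
      rw [h0, pow_zero, Subgroup.relIndex_eq_one] at hCe
      apply hxB
      intro b hb
      have : b ∈ Subgroup.centralizer {x} := (hCe hb).2
      rw [Subgroup.mem_centralizer_iff] at this
      exact (this x rfl)
    · exact h0
  have hcB : Nat.card C * s ^ e = Nat.card B := by
    rw [← hCe]; exact card_mul_relIndex_of_le hCB
  have hcC : Nat.card A * s ^ f = Nat.card C := by
    rw [← hAf]; exact card_mul_relIndex_of_le hAC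
  refine ⟨e, he1, het, ?_, hcB⟩
  have hconj : Nat.card B ≡ Nat.card C [MOD r] := by
    refine conj_card_modEq x r hr hx B ?_
    intro b hb
    exact h.normal.conj_mem b hb x
  -- `r ≠ s`
  obtain ⟨z, hzA, hz1, hzs⟩ := h.exists_z
  have hsA : s ∣ Nat.card A := by
    have h1 : orderOf z = s := by
      have := orderOf_dvd_of_pow_eq_one hzs
      rcases (Nat.dvd_prime h.prime).mp this with h2 | h2
      · exact absurd (orderOf_eq_one_iff.mp h2) hz1
      · exact h2
    have h2 : orderOf (⟨z, hzA⟩ : A) = s := by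
      rw [← h1]; exact Subgroup.orderOf_mk z hzA
    rw [← h2]
    exact orderOf_dvd_natCard _
  have hrs : r ≠ s := by
    intro hrs
    exact hrA (hrs ▸ hsA)
  have hrC : ¬ r ∣ Nat.card C := by
    rw [← hcC]
    intro hd
    rcases (Nat.Prime.dvd_mul hr).mp hd with h1 | h1
    · exact hrA h1
    · have := hr.dvd_of_dvd_pow h1
      exact hrs ((Nat.prime_dvd_prime_iff_eq hr h.prime).mp this)
  have hs1 : 1 ≤ s ^ e := Nat.one_le_pow _ _ h.prime.pos
  have h1 : r ∣ Nat.card B - Nat.card C := by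
    refine (Nat.modEq_iff_dvd' ?_).mp hconj.symm
    rw [← hcB]
    exact Nat.le_mul_of_pos_right _ hs1
  have h2 : Nat.card B - Nat.card C = Nat.card C * (s ^ e - 1) := by
    rw [← hcB, Nat.mul_sub, mul_one]
  rw [h2] at h1
  rcases (Nat.Prime.dvd_mul hr).mp h1 with h3 | h3
  · exact absurd h3 hrC
  · exact h3

end Cfsg.Agent.S3360L
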