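import Mathlib

/-! # S3360, main chain, part B: an additive bijection of prime order `r` that is semilinear over a
finite field `K` with `r ∤ q^j - 1` (`0 < j ≤ m`, `|K| = q^m`) is `K`-linear -/

set_option autoImplicit false
set_option linter.style.haveILetI false

namespace Cfsg.Agent.S3360L

theorem smul_unique {K : Type*} [Field K] {V : Type*} [AddCommGroup V] [Module K V] [Nontrivial V]
    (c c' : K) (h : ∀ v : V, c • v = c' • v) : c = c' := by
  obtain ⟨v, hv⟩ := exists_ne (0 : V)
  exact smul_left_injective K hv (h v)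

theorem semilinear_fix {K : Type*} [Field K] [Fintype K] {V : Type*} [AddCommGroup V] [Module K V]
    [Nontrivial V] (f : V ≃+ V) (r : ℕ) (hr : r.Prime) (hf : ∀ v, (⇑f)^[r] v = v)
    (hK3 : ∀ c : K, ∃ c' : K, ∀ v, f (c • v) = c' • f v)
    (q m : ℕ) (hq : q.Prime) (hcard : Fintype.card K = q ^ m)
    (hprim : ∀ j, 0 < j → j ≤ m → ¬ r ∣ q ^ j - 1) (hrq : r ≠ q) :
    ∀ (c : K) (v : V), f (c • v) = c • f v := by
  classical
  haveI : Fact r.Prime := ⟨hr⟩
  choose τ hτ using hK3
  have huniq : ∀ c d : K, (∀ v, f (c • v) = d • f v) → d = τ c := by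
    intro c d hd
    apply smul_unique (V := V)
    intro w
    obtain ⟨v, rfl⟩ := f.surjective w
    rw [← hd, ← hτ]
  have hadd : ∀ c d : K, τ (c + d) = τ c + τ d := by
    intro c d
    symm
    apply huniq
    intro v
    rw [add_smul, map_add, hτ, hτ, add_smul]
  have hiter : ∀ j : ℕ, ∀ (c : K) (v : V), (⇑f)^[j] (c • v) = (τ^[j] c) • (⇑f)^[j] v := by
    intro j
    induction j with
    | zero => intro c v; rfl
    | succ j ih =>
      intro c v
      rw [Function.iterate_succ_apply', Function.iterate_succ_apply', Function.iterate_succ_apply',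
        ih, hτ]
  have hτr : ∀ c : K, τ^[r] c = c := by
    intro c
    apply smul_unique (V := V)
    intro v
    have := hiter r c v
    rw [hf, hf] at this
    exact this.symm
  let F : Function.End K := τ
  have hFpow : ∀ j : ℕ, ∀ c : K, (F ^ j) c = τ^[j] c := by
    intro j
    induction j with
    | zero => intro c; rfl
    | succ j ih =>
      intro c
      rw [pow_succ', Function.iterate_succ_apply']
      change F ((F ^ j) c) = _
      rw [ih]
  have hF : F ^ r ^ 1 = 1 := by
    rw [pow_one]
    funext c
    rw [hFpow, hτr]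
    rfl
  have hmod := Equiv.Perm.card_fixedPoints_modEq (f := F) hF
  -- fixed points form an additive subgroup
  have hτ0 : τ 0 = 0 := by
    have := hadd 0 0
    rw [add_zero] at this
    exact left_eq_add.mp this
  have hneg : ∀ c : K, τ (-c) = - τ c := by
    intro c
    have := hadd c (-c)
    rw [add_neg_cancel, hτ0] at this
    exact (neg_eq_of_add_eq_zero_right this.symm).symm
  let Fix : AddSubgroup K :=
    { carrier := {c | τ c = c}
      add_mem' := by
        intro a b ha hb
        show τ (a + b) = a + b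
        rw [hadd, ha, hb]
      zero_mem' := hτ0
      neg_mem' := by
        intro a ha
        show τ (-a) = -a
        rw [hneg, ha] }
  have hFixcard : Fintype.card (Function.fixedPoints F) = Nat.card Fix := by
    rw [Fintype.card_eq_nat_card]
    rfl
  have hdvd : Nat.card Fix ∣ q ^ m := by
    rw [← hcard, Fintype.card_eq_nat_card]
    exact AddSubgroup.card_addSubgroup_dvd_card Fix
  obtain ⟨m', hm'm, hm'⟩ := (Nat.dvd_prime_pow hq).mp hdvd
  rw [hFixcard, hm', hcard] at hmod
  -- `q^m ≡ q^m' [MOD r]`
  have hrq' : ¬ r ∣ q := by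
    intro hd
    exact hrq ((Nat.prime_dvd_prime_iff_eq hr hq).mp hd)
  have hmm' : m' = m := by
    by_contra hne
    have hlt : m' < m := lt_of_le_of_ne hm'm hne
    have h1 : r ∣ q ^ m - q ^ m' :=
      (Nat.modEq_iff_dvd' (Nat.pow_le_pow_right hq.pos hm'm)).mp hmod.symm
    have h2 : q ^ m - q ^ m' = q ^ m' * (q ^ (m - m') - 1) := by
      rw [Nat.mul_sub, mul_one, ← pow_add]
      congr 2
      omega
    rw [h2] at h1
    rcases (Nat.Prime.dvd_mul hr).mp h1 with h3 | h3
    · exact hrq' (hr.dvd_of_dvd_pow h3)
    · exact hprim (m - m') (by omega) (by omega) h3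
  have htop : Fix = ⊤ := by
    apply AddSubgroup.eq_top_of_card_eq
    rw [hm', hmm', ← hcard, Fintype.card_eq_nat_card]
  intro c v
  have hc : c ∈ Fix := by rw [htop]; exact AddSubgroup.mem_top c
  have hc' : τ c = c := hc
  rw [hτ, hc']

end Cfsg.Agent.S3360L
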