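import Mathlib

/-! # S3360: the centralizer of an irreducible operator is commutative -/

set_option autoImplicit false

namespace Cfsg.Agent.S3360L

open Polynomial

variable {F V : Type*} [Field F] [AddCommGroup V] [Module F V]

theorem commute_aeval_of_commute (u S : Module.End F V) (hS : S * u = u * S) (p : F[X]) :
    S * aeval u p = aeval u p * S := by
  have h1 : aeval u p ∈ Algebra.adjoin F {u} := aeval_mem_adjoin_singleton F u
  have h2 : Algebra.adjoin F {u} ≤ Subalgebra.centralizer F {S} := by
    apply Algebra.adjoin_le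
    intro x hx
    rw [Set.mem_singleton_iff] at hx
    subst hx
    rw [SetLike.mem_coe, Subalgebra.mem_centralizer_iff]
    intro g hg
    rw [Set.mem_singleton_iff] at hg
    subst hg
    exact hS
  have h3 := h2 h1
  rw [Subalgebra.mem_centralizer_iff] at h3
  exact h3 S rfl

/-- the centralizer of an irreducible operator is commutative -/
theorem comm_of_irreducible (u : Module.End F V)
    (hirr : ∀ W : Submodule F V, (∀ w ∈ W, u w ∈ W) → W = ⊥ ∨ W = ⊤)
    (S T : Module.End F V) (hS : S * u = u * S) (hT : T * u = u * T) : S * T = T * S := by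
  by_cases hV : ∀ v : V, v = 0
  · ext v
    rw [hV ((S * T) v), hV ((T * S) v)]
  push Not at hV
  obtain ⟨v₀, hv₀⟩ := hV
  let ψ : F[X] →ₗ[F] V := (LinearMap.applyₗ v₀).comp (aeval u).toLinearMap
  have hψ : ∀ p, ψ p = (aeval u p) v₀ := fun p => rfl
  have hinv : ∀ w ∈ LinearMap.range ψ, u w ∈ LinearMap.range ψ := by
    rintro _ ⟨p, rfl⟩
    refine ⟨X * p, ?_⟩
    rw [hψ, hψ, map_mul, aeval_X]
    rfl
  have htop : LinearMap.range ψ = ⊤ := by
    rcases hirr _ hinv with h | h
    · exfalso
      have : v₀ ∈ LinearMap.range ψ := ⟨1, by rw [hψ, map_one]; rfl⟩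
      rw [h, Submodule.mem_bot] at this
      exact hv₀ this
    · exact h
  have hgen : ∀ v : V, ∃ p : F[X], (aeval u p) v₀ = v := by
    intro v
    have : v ∈ LinearMap.range ψ := htop ▸ Submodule.mem_top
    obtain ⟨p, hp⟩ := this
    exact ⟨p, hp⟩
  obtain ⟨a, ha⟩ := hgen (S v₀)
  obtain ⟨b, hb⟩ := hgen (T v₀)
  have key : (S * T) v₀ = (T * S) v₀ := by
    have h1 : (S * T) v₀ = (aeval u b * aeval u a) v₀ := by
      show S (T v₀) = aeval u b (aeval u a v₀)
      rw [← hb, ha]
      have := LinearMap.congr_fun (commute_aeval_of_commute u S hS b) v₀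
      simp only [Module.End.mul_apply] at this
      rw [this]
    have h2 : (T * S) v₀ = (aeval u a * aeval u b) v₀ := by
      show T (S v₀) = aeval u a (aeval u b v₀)
      rw [← ha, hb]
      have := LinearMap.congr_fun (commute_aeval_of_commute u T hT a) v₀
      simp only [Module.End.mul_apply] at this
      rw [this]
    rw [h1, h2, ← map_mul, ← map_mul, mul_comm]
  ext v
  obtain ⟨p, rfl⟩ := hgen v
  have h1 := LinearMap.congr_fun (commute_aeval_of_commute u S hS p) (T v₀)
  have h2 := LinearMap.congr_fun (commute_aeval_of_commute u T hT p) v₀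
  have h3 := LinearMap.congr_fun (commute_aeval_of_commute u T hT p) (S v₀)
  have h4 := LinearMap.congr_fun (commute_aeval_of_commute u S hS p) v₀
  simp only [Module.End.mul_apply] at h1 h2 h3 h4 key ⊢
  rw [h2, h1, h4, h3, key]

end Cfsg.Agent.S3360L
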