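import Mathlib
import Cfsg.Agent.Lib.S3360.MainA
import Cfsg.Agent.Lib.S3360.MainB
import Cfsg.Agent.Lib.S3360.HeisE
import Cfsg.Agent.Lib.S3360.PpdA
import Cfsg.Agent.Lib.S3360.PpdB

/-! # S3360, main chain, part C: the linear group context -/

set_option autoImplicit false
set_option linter.style.haveILetI false
set_option linter.unusedSectionVars false
set_option linter.unusedVariables false

namespace Cfsg.Agent.S3360L

universe u w

section lin

variable {q : ℕ} [Fact q.Prime] {V : Type u} [AddCommGroup V] [Module (ZMod q) V] [Nontrivial V]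
  {G : Type w} [Group G] (ρ : G →* (V ≃ₗ[ZMod q] V)) (hρ : Function.Injective ρ)
  {K : Type} [Field K] [Module K V]
  (A : Subgroup G) (hK1 : ∀ a ∈ A, ∃ c : K, ∀ v, ρ a v = c • v)

theorem rho_mul_apply (g h : G) (v : V) : ρ (g * h) v = ρ g (ρ h v) := by
  rw [map_mul]; rfl

theorem rho_one_apply (v : V) : ρ 1 v = v := by
  rw [map_one]; rfl

theorem rho_pow_apply (g : G) (j : ℕ) (v : V) : (⇑(ρ g))^[j] v = ρ (g ^ j) v := by
  induction j with
  | zero => rw [pow_zero, rho_one_apply]; rfl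
  | succ j ih => rw [Function.iterate_succ_apply', ih, pow_succ', rho_mul_apply]

include hρ hK1 in
/-- **L1.** `A` embeds in `K^×`. -/
theorem exists_scalar_hom : ∃ φ : A →* K, Function.Injective φ ∧ ∀ (a : A) (v : V), ρ a.1 v = φ a • v := by
  choose c hc using hK1
  have huniq : ∀ (a : G) (ha : a ∈ A) (d : K), (∀ v, ρ a v = d • v) → d = c a ha := by
    intro a ha d hd
    apply smul_unique (V := V)
    intro v
    rw [← hd, ← hc]
  refine ⟨{ toFun := fun a => c a.1 a.2, map_one' := ?_, map_mul' := ?_ }, ?_, ?_⟩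
  · symm
    apply huniq
    intro v
    rw [one_smul]
    exact rho_one_apply ρ v
  · intro a b
    symm
    apply huniq
    intro v
    rw [Subgroup.coe_mul, rho_mul_apply, hc b.1 b.2, hc a.1 a.2, mul_smul]
  · intro a b hab
    apply Subtype.ext
    apply hρ
    ext v
    rw [hc a.1 a.2, hc b.1 b.2]
    exact congrArg (· • v) hab
  · intro a v
    exact hc a.1 a.2 v

include hρ hK1 in
theorem A_isCyclic [Finite G] : IsCyclic A := by
  obtain ⟨φ, hφ, -⟩ := exists_scalar_hom ρ hρ A hK1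
  exact isCyclic_of_injective_ringHom φ hφ

include hρ hK1 in
theorem A_card_dvd [Finite K] : Nat.card A ∣ Nat.card K - 1 := by
  obtain ⟨φ, hφ, -⟩ := exists_scalar_hom ρ hρ A hK1
  rw [← Nat.card_units]
  refine Subgroup.card_dvd_of_injective φ.toHomUnits ?_
  intro a b hab
  apply hφ
  have := congrArg Units.val hab
  simpa using this

include hρ hK1 in
/-- an element commuting with the `K`-scalars centralizes `A` -/
theorem centralizes_of_linear (x : G) (hx : ∀ (c : K) (v : V), ρ x (c • v) = c • ρ x v) :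
    ∀ a ∈ A, x * a = a * x := by
  intro a ha
  obtain ⟨c, hc⟩ := hK1 a ha
  apply hρ
  ext v
  rw [rho_mul_apply, rho_mul_apply, hc, hc, hx]

include hρ hK1 in
/-- **L2.** -/
theorem BProp.natCast_ne_zero {B : Subgroup G} {s : ℕ} (h : BProp A B s) : (s : K) ≠ 0 := by
  intro hs0
  obtain ⟨φ, hφ, hφv⟩ := exists_scalar_hom ρ hρ A hK1
  obtain ⟨z, hzA, hz1, hzs⟩ := h.exists_z
  haveI : Fact s.Prime := ⟨h.prime⟩
  haveI : CharP K s := by
    have h1 : ringChar K ∣ s := ringChar.dvd hs0
    rcases (Nat.dvd_prime h.prime).mp h1 with h2 | h2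
    · exact absurd h2 (CharP.ringChar_ne_one)
    · rw [← h2]; exact ringChar.charP K
  have h1 : φ ⟨z, hzA⟩ ^ s = 1 := by
    rw [← map_pow]
    have : (⟨z, hzA⟩ : A) ^ s = 1 := Subtype.ext hzs
    rw [this, map_one]
  have h2 : frobenius K s (φ ⟨z, hzA⟩) = frobenius K s 1 := by
    rw [frobenius_def, frobenius_def, h1, one_pow]
  have h3 : φ ⟨z, hzA⟩ = 1 := frobenius_inj K s h2
  have h4 : (⟨z, hzA⟩ : A) = 1 := hφ (by rw [h3, map_one])
  exact hz1 (congrArg Subtype.val h4)

/-- the `K`-linear representation of a subgroup commuting with the scalars -/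
def rhoK (B : Subgroup G) (hB : ∀ b ∈ B, ∀ (c : K) (v : V), ρ b (c • v) = c • ρ b v) :
    B →* Module.End K V where
  toFun b :=
    { toFun := fun v => ρ b.1 v
      map_add' := fun v w => map_add _ v w
      map_smul' := fun c v => hB b.1 b.2 c v }
  map_one' := by
    ext v
    exact rho_one_apply ρ v
  map_mul' := by
    intro a b
    ext v
    exact rho_mul_apply ρ a.1 b.1 v

theorem rhoK_apply (B : Subgroup G) (hB : ∀ b ∈ B, ∀ (c : K) (v : V), ρ b (c • v) = c • ρ b v)
    (b : B) (v : V) : rhoK ρ B hB b v = ρ b.1 v := rfl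

include hρ hK1 in
/-- **M2.** -/
theorem BProp.relIndex_dvd [Finite G] [Finite V] {B : Subgroup G} {s : ℕ} (h : BProp A B s)
    (hB : ∀ b ∈ B, ∀ (c : K) (v : V), ρ b (c • v) = c • ρ b v) :
    A.relIndex B ∣ (Module.finrank K V) ^ 2 := by
  haveI : Fact s.Prime := ⟨h.prime⟩
  haveI : Module.Finite K V := Module.Finite.of_finite
  have hsK : (s : K) ≠ 0 := h.natCast_ne_zero ρ hρ A hK1
  refine heis (K := K) (V := V) (H := B) s hsK (rhoK ρ B hB) ?_ (A.subgroupOf B) ?_ ?_ ?_ ?_
  · intro a b hab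
    apply Subtype.ext
    apply hρ
    ext v
    have := LinearMap.congr_fun hab v
    exact this
  · intro z hz
    rw [Subgroup.mem_subgroupOf] at hz
    obtain ⟨c, hc⟩ := hK1 z.1 hz
    refine ⟨c, ?_⟩
    ext v
    rw [rhoK_apply, hc]
    rfl
  · intro b hb
    rw [Subgroup.mem_subgroupOf]
    apply h.center b.1 b.2
    intro c hc
    exact congrArg Subtype.val (hb ⟨c, hc⟩)
  · intro b
    rw [Subgroup.mem_subgroupOf]
    exact h.exp b.1 b.2
  · intro b c
    rw [Subgroup.mem_subgroupOf]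
    exact h.comm b.1 b.2 c.1 c.2

include hρ hK1 in
/-- **M3.** an element of prime order `r`, `r ∤ q^j - 1` for `0 < j ≤ m`, centralizes `A`. -/
theorem centralizes_of_ppd [Fintype K]
    (hK3 : ∀ (g : G) (c : K), ∃ c' : K, ∀ v, ρ g (c • v) = c' • ρ g v)
    (m : ℕ) (hcard : Fintype.card K = q ^ m) (x : G) (r : ℕ) (hr : r.Prime) (hx : x ^ r = 1)
    (hprim : ∀ j, 0 < j → j ≤ m → ¬ r ∣ q ^ j - 1) (hrq : r ≠ q) :
    ∀ a ∈ A, x * a = a * x := by
  apply centralizes_of_linear ρ hρ A hK1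
  have := semilinear_fix (K := K) (V := V) (ρ x).toAddEquiv r hr ?_ (hK3 x) q m
    (Fact.out : q.Prime) hcard hprim hrq
  · exact this
  · intro v
    have := rho_pow_apply ρ x r v
    rw [hx, rho_one_apply] at this
    exact this

include hρ in
/-- **M4.** a primitive prime order element does not centralize a non-abelian subgroup. -/
theorem not_centralizes_of_ppd [Finite G] [Finite V] (n : ℕ) (hn : 1 ≤ n)
    (hdim : Module.finrank (ZMod q) V = n)
    (x : G) (r : ℕ) (hr : r.Prime) (hx : x ^ r = 1) (hx1 : x ≠ 1)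
    (hdvd : r ∣ q ^ n - 1) (hprim : ∀ j, 0 < j → j < n → ¬ r ∣ q ^ j - 1)
    (B : Subgroup G) (hB : ∃ b ∈ B, ∃ c ∈ B, b * c ≠ c * b) :
    ¬ ∀ b ∈ B, x * b = b * x := by
  intro hxB
  obtain ⟨b, hb, c, hc, hbc⟩ := hB
  let T : (V ≃ₗ[ZMod q] V) →* Module.End (ZMod q) V :=
    LinearEquiv.automorphismGroup.toLinearMapMonoidHom
  have hT : ∀ (g : G) (v : V), T (ρ g) v = ρ g v := fun g v => rfl
  have hTinj : Function.Injective (T.comp ρ) := by
    intro g h hgh
    apply hρ
    ext v
    have := LinearMap.congr_fun hgh v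
    exact this
  have hcardq : Fintype.card (ZMod q) = q := ZMod.card q
  have hirr : ∀ W : Submodule (ZMod q) V, (∀ w ∈ W, T (ρ x) w ∈ W) → W = ⊥ ∨ W = ⊤ := by
    intro W hW
    refine ppd_irreducible (F := ZMod q) n hn hdim (T (ρ x)) r hr ?_ ?_ ?_ ?_ W hW
    · rw [hcardq]; exact hdvd
    · intro k hk hkn
      rw [hcardq]
      exact hprim k hk hkn
    · rw [← map_pow, ← map_pow, hx, map_one, map_one]
    · intro h1
      apply hx1
      apply hTinj
      rw [MonoidHom.comp_apply, MonoidHom.comp_apply, h1, map_one, map_one]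
  have hcomm := comm_of_irreducible (T (ρ x)) hirr (T (ρ b)) (T (ρ c)) ?_ ?_
  · apply hbc
    apply hTinj
    rw [MonoidHom.comp_apply, MonoidHom.comp_apply, map_mul, map_mul, map_mul, map_mul]
    exact hcomm
  · rw [← map_mul, ← map_mul, ← map_mul, ← map_mul, hxB b hb]
  · rw [← map_mul, ← map_mul, ← map_mul, ← map_mul, hxB c hc]

end lin

end Cfsg.Agent.S3360L
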