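import Mathlib

/-! # S3360: the arithmetic of the primitive prime divisor -/

set_option autoImplicit false

namespace Cfsg.Agent.S3360L

/-- `r = 1 + j s^d` divides `s^e - 1` with `1 ≤ e ≤ 2d` ⇒ `j = 1`, `e = 2d` -/
theorem ppd_arith_base (r s d e j : ℕ) (hs : 2 ≤ s) (hd : 1 ≤ d) (hj : 1 ≤ j)
    (hr : r = 1 + j * s ^ d) (he1 : 1 ≤ e) (he : e ≤ 2 * d) (hdiv : r ∣ s ^ e - 1) :
    j = 1 ∧ e = 2 * d := by
  have hsd : 2 ≤ s ^ d := by
    calc 2 ≤ s := hs
      _ = s ^ 1 := (pow_one s).symm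
      _ ≤ s ^ d := Nat.pow_le_pow_right (by omega) hd
  have hse : 2 ≤ s ^ e := by
    calc 2 ≤ s := hs
      _ = s ^ 1 := (pow_one s).symm
      _ ≤ s ^ e := Nat.pow_le_pow_right (by omega) he1
  -- `e > d`
  have hed : d < e := by
    by_contra hcon
    push Not at hcon
    have h1 : s ^ e ≤ s ^ d := Nat.pow_le_pow_right (by omega) hcon
    have h2 : s ^ e - 1 < r := by
      have : s ^ d ≤ j * s ^ d := Nat.le_mul_of_pos_left _ hj
      omega
    have h3 := Nat.eq_zero_of_dvd_of_lt hdiv h2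
    omega
  obtain ⟨t, ht⟩ : ∃ t, e = d + t := ⟨e - d, by omega⟩
  have ht1 : 1 ≤ t := by omega
  have htd : t ≤ d := by omega
  have hst : 2 ≤ s ^ t := by
    calc 2 ≤ s := hs
      _ = s ^ 1 := (pow_one s).symm
      _ ≤ s ^ t := Nat.pow_le_pow_right (by omega) ht1
  have hstd : s ^ t ≤ s ^ d := Nat.pow_le_pow_right (by omega) htd
  -- `r ∣ s^t + j`
  have hkey : r ∣ s ^ t + j := by
    have h1 : r ∣ j * (s ^ e - 1) := Dvd.dvd.mul_left hdiv j
    have h2 : j * (s ^ e - 1) + (s ^ t + j) = s ^ t * r := by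
      rw [ht, pow_add, hr]
      have h3 : 1 ≤ s ^ d * s ^ t := by nlinarith
      zify [h3]
      ring
    have h4 : r ∣ s ^ t * r := Dvd.intro_left _ rfl
    rw [← h2] at h4
    exact (Nat.dvd_add_right h1).mp h4
  have hle : r ≤ s ^ t + j := Nat.le_of_dvd (by omega) hkey
  rw [hr] at hle
  -- `j = 1`
  have hj1 : j = 1 := by
    by_contra hne
    have hj2 : 2 ≤ j := by omega
    have h1 : j * s ^ t ≤ j * s ^ d := Nat.mul_le_mul_left j hstd
    have h2 : 2 * s ^ t ≤ j * s ^ t := Nat.mul_le_mul_right _ hj2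
    nlinarith
  subst hj1
  refine ⟨rfl, ?_⟩
  have h1 : s ^ d ≤ s ^ t := by omega
  have h2 : d ≤ t := (Nat.pow_le_pow_iff_right (by omega)).mp h1
  omega

/-- the arithmetic consequence: `r = s^d + 1`, `n = k = s^d`, `t = 2d` -/
theorem ppd_arith (r s n k t e : ℕ) (hr : r.Prime) (hs : s.Prime) (hn : 1 ≤ n)
    (hnr : n ∣ r - 1) (hkn : k ∣ n) (htk : s ^ t ∣ k ^ 2) (he1 : 1 ≤ e) (het : e ≤ t)
    (hdiv : r ∣ s ^ e - 1) :
    ∃ d : ℕ, 1 ≤ d ∧ t = 2 * d ∧ k = s ^ d ∧ n = s ^ d ∧ r = s ^ d + 1 := by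
  have hk0 : k ≠ 0 := by
    rintro rfl
    have := Nat.eq_zero_of_zero_dvd hkn
    omega
  set d := k.factorization s with hd
  have hsdk : s ^ d ∣ k := Nat.ordProj_dvd k s
  have htd : t ≤ 2 * d := by
    have h1 := (hs.pow_dvd_iff_le_factorization (pow_ne_zero 2 hk0)).mp htk
    rw [Nat.factorization_pow] at h1
    simpa [hd] using h1
  have hd1 : 1 ≤ d := by omega
  have hsdn : s ^ d ∣ n := hsdk.trans hkn
  obtain ⟨j, hj⟩ := hsdn.trans hnr
  have hr2 := hr.two_le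
  have hj1 : 1 ≤ j := by
    rcases Nat.eq_zero_or_pos j with h | h
    · subst h; omega
    · exact h
  have hreq : r = 1 + j * s ^ d := by
    rw [mul_comm]; omega
  obtain ⟨hj1', he2⟩ := ppd_arith_base r s d e j hs.two_le hd1 hj1 hreq he1 (het.trans htd) hdiv
  subst hj1'
  rw [one_mul] at hreq
  have hnsd : n ∣ s ^ d := by
    have : r - 1 = s ^ d := by omega
    rwa [this] at hnr
  have hn' : n = s ^ d := Nat.dvd_antisymm hnsd hsdn
  have hk' : k = s ^ d := Nat.dvd_antisymm (hn' ▸ hkn) hsdk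
  exact ⟨d, hd1, by omega, hk', hn', by omega⟩

end Cfsg.Agent.S3360L
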