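import Mathlib
import Cfsg.Agent.Lib.S3360.MainC
import Cfsg.Agent.Lib.S3360.PpdD
import Cfsg.Agent.Lib.S3360.BGroup

/-! # S3360, main chain, part D: the context and the core lemma -/

set_option autoImplicit false
set_option linter.style.haveILetI false
set_option linter.unusedSectionVars false
set_option linter.unusedVariables false

namespace Cfsg.Agent.S3360L

universe u w

theorem dvd_pow_sub_one_iff (q j r : ℕ) (hq : 1 ≤ q) : r ∣ q ^ j - 1 ↔ ((q : ZMod r) ^ j = 1) := by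
  have h1 : 1 ≤ q ^ j := Nat.one_le_pow _ _ hq
  rw [← ZMod.natCast_eq_zero_iff, Nat.cast_sub h1, Nat.cast_pow, Nat.cast_one, sub_eq_zero]

theorem ppd_dvd_sub_one (q n r : ℕ) (hq : 1 ≤ q) (hn : 1 ≤ n) (hr : r.Prime)
    (hdvd : r ∣ q ^ n - 1) (hprim : ∀ j, 0 < j → j < n → ¬ r ∣ q ^ j - 1) : n ∣ r - 1 := by
  haveI : Fact r.Prime := ⟨hr⟩
  have h1 : (q : ZMod r) ^ n = 1 := (dvd_pow_sub_one_iff q n r hq).mp hdvd
  have hq0 : (q : ZMod r) ≠ 0 := by
    intro h0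
    rw [h0, zero_pow (by omega)] at h1
    exact zero_ne_one h1
  have hord : orderOf (q : ZMod r) = n := by
    rw [orderOf_eq_iff (by omega)]
    refine ⟨h1, ?_⟩
    intro j hjn hj h2
    exact hprim j hj hjn ((dvd_pow_sub_one_iff q j r hq).mpr h2)
  rw [← hord]
  exact orderOf_dvd_of_pow_eq_one (ZMod.pow_card_sub_one_eq_one hq0)

section ctx

variable {q : ℕ} [Fact q.Prime] {V : Type u} [AddCommGroup V] [Module (ZMod q) V]
  {G : Type w} [Group G]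

/-- the standing hypotheses of the non-semilinear case -/
structure Ctx (ρ : G →* (V ≃ₗ[ZMod q] V)) (A : Subgroup G) (K : Type) [Field K] [Fintype K]
    [Module K V] (n m k : ℕ) : Prop where
  inj : Function.Injective ρ
  sol : Group.IsSolvable G
  An : A.Normal
  Ac : ∀ a ∈ A, ∀ b ∈ A, a * b = b * a
  Amax : ∀ A' : Subgroup G, A'.Normal → (∀ a ∈ A', ∀ b ∈ A', a * b = b * a) → A ≤ A' → A' = A
  K1 : ∀ a ∈ A, ∃ c : K, ∀ v, ρ a v = c • v
  K2 : ∀ g : G, (∀ a ∈ A, g * a = a * g) → ∀ (c : K) (v : V), ρ g (c • v) = c • ρ g v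
  K3 : ∀ (g : G) (c : K), ∃ c' : K, ∀ v, ρ g (c • v) = c' • ρ g v
  cardK : Fintype.card K = q ^ m
  dimK : Module.finrank K V = k
  dimF : Module.finrank (ZMod q) V = n
  nmk : n = m * k
  k2 : 2 ≤ k
  m1 : 1 ≤ m
  cardG : q ^ n - 1 ∣ Nat.card G

variable [Nontrivial V] [Finite V] [Finite G]
  {ρ : G →* (V ≃ₗ[ZMod q] V)} {A : Subgroup G} {K : Type} [Field K] [Fintype K]
  [Module K V] {n m k : ℕ}

theorem Ctx.lin_of_BProp (C : Ctx ρ A K n m k) {B : Subgroup G} {s : ℕ} (h : BProp A B s) :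
    ∀ b ∈ B, ∀ (c : K) (v : V), ρ b (c • v) = c • ρ b v :=
  fun b hb => C.K2 b (fun a ha => h.cent b hb a ha)

theorem Ctx.relIndex_dvd (C : Ctx ρ A K n m k) {B : Subgroup G} {s : ℕ} (h : BProp A B s) :
    A.relIndex B ∣ k ^ 2 := by
  rw [← C.dimK]
  exact h.relIndex_dvd ρ C.inj A C.K1 (C.lin_of_BProp h)

theorem Ctx.card_A_dvd (C : Ctx ρ A K n m k) : Nat.card A ∣ q ^ m - 1 := by
  rw [← C.cardK, Fintype.card_eq_nat_card]
  exact A_card_dvd ρ C.inj A C.K1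

theorem Ctx.m_lt_n (C : Ctx ρ A K n m k) : m < n := by
  have h1 := C.nmk
  have h2 := C.k2
  have h3 := C.m1
  rw [h1]
  nlinarith

/-- **core (M6)** -/
theorem Ctx.core (C : Ctx ρ A K n m k) {B : Subgroup G} {s : ℕ} (h : BProp A B s)
    (r : ℕ) (hr : r.Prime) (hdvd : r ∣ q ^ n - 1)
    (hprim : ∀ j, 0 < j → j < n → ¬ r ∣ q ^ j - 1) :
    ∃ d : ℕ, 1 ≤ d ∧ A.relIndex B = s ^ (2 * d) ∧ k = s ^ d ∧ n = s ^ d ∧ r = s ^ d + 1 := by
  have hq : q.Prime := Fact.out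
  haveI : Fact r.Prime := ⟨hr⟩
  have hmn := C.m_lt_n
  have hn1 : 1 ≤ n := by have := C.m1; omega
  obtain ⟨x, hxord⟩ := exists_prime_orderOf_dvd_card' (G := G) r (hdvd.trans C.cardG)
  have hx : x ^ r = 1 := by rw [← hxord]; exact pow_orderOf_eq_one x
  have hx1 : x ≠ 1 := by
    intro h1
    rw [h1, orderOf_one] at hxord
    exact hr.one_lt.ne hxord
  have hrq : r ≠ q := by
    intro hrq
    rw [hrq] at hdvd
    have h1 : 1 ≤ q ^ n := Nat.one_le_pow _ _ hq.pos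
    have h2 : q ∣ q ^ n := dvd_pow_self q (by omega)
    have h3 : q ∣ q ^ n - (q ^ n - 1) := Nat.dvd_sub h2 hdvd
    have h4 : q ^ n - (q ^ n - 1) = 1 := by omega
    rw [h4] at h3
    exact hq.one_lt.ne' (Nat.dvd_one.mp h3)
  have hxA : ∀ a ∈ A, x * a = a * x :=
    centralizes_of_ppd ρ C.inj A C.K1 C.K3 m C.cardK x r hr hx
      (fun j hj hjm => hprim j hj (by omega)) hrq
  have hxB : ¬ ∀ b ∈ B, x * b = b * x :=
    not_centralizes_of_ppd ρ C.inj n hn1 C.dimF x r hr hx hx1 hdvd hprim B h.exists_noncomm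
  have hrA : ¬ r ∣ Nat.card A := by
    intro hd
    exact hprim m C.m1 hmn (hd.trans C.card_A_dvd)
  obtain ⟨t, ht⟩ := h.relIndex_eq_pow
  obtain ⟨e, he1, het, hre, -⟩ := h.ppd_dvd x r hr hx hxA hxB hrA t ht
  have htk : s ^ t ∣ k ^ 2 := by rw [← ht]; exact C.relIndex_dvd h
  have hnr : n ∣ r - 1 := ppd_dvd_sub_one q n r hq.pos hn1 hr hdvd hprim
  have hkn : k ∣ n := ⟨m, by rw [C.nmk, mul_comm]⟩
  obtain ⟨d, hd1, htd, hkd, hnd, hrd⟩ := ppd_arith r s n k t e hr h.prime hn1 hnr hkn htk he1 het hre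
  exact ⟨d, hd1, by rw [ht, htd], hkd, hnd, hrd⟩

/-- consequences of the core lemma: `m = 1`, `s = 2` -/
theorem Ctx.core' (C : Ctx ρ A K n m k) {B : Subgroup G} {s : ℕ} (h : BProp A B s)
    (r : ℕ) (hr : r.Prime) (hdvd : r ∣ q ^ n - 1)
    (hprim : ∀ j, 0 < j → j < n → ¬ r ∣ q ^ j - 1) :
    m = 1 ∧ s = 2 ∧ ∃ d : ℕ, 1 ≤ d ∧ A.relIndex B = 2 ^ (2 * d) ∧ k = 2 ^ d ∧ n = 2 ^ d ∧
      r = 2 ^ d + 1 := by
  obtain ⟨d, hd1, hidx, hkd, hnd, hrd⟩ := C.core h r hr hdvd hprim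
  have hm1 : m = 1 := by
    have h1 := C.nmk
    have h2 : k = n := by rw [hkd, hnd]
    rw [h2] at h1
    have hn0 : 0 < n := by have := C.k2; omega
    have h3 : 1 * n = m * n := by rw [one_mul]; exact h1
    exact (Nat.eq_of_mul_eq_mul_right hn0 h3).symm
  have hs2 : s = 2 := by
    rcases h.prime.eq_two_or_odd' with h2 | h2
    · exact h2
    · exfalso
      have hodd : Odd (s ^ d) := h2.pow
      have heven : Even r := by
        rw [hrd]
        exact hodd.add_one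
      have hr2 : r = 2 := (Nat.Prime.even_iff hr).mp heven
      have hsd : 2 ≤ s ^ d := by
        calc 2 ≤ s := h.prime.two_le
          _ = s ^ 1 := (pow_one s).symm
          _ ≤ s ^ d := Nat.pow_le_pow_right h.prime.pos hd1
      omega
  subst hs2
  exact ⟨hm1, rfl, d, hd1, hidx, hkd, hnd, hrd⟩

end ctx

end Cfsg.Agent.S3360L
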