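import Mathlib
import Cfsg.Agent.Lib.S3360.MainD

/-! # S3360, main chain, part E: `A` central when `m = 1`; `C_G(B) ∩ C_G(A) ≤ A` -/

set_option autoImplicit false
set_option linter.style.haveILetI false
set_option linter.unusedSectionVars false
set_option linter.unusedVariables false

namespace Cfsg.Agent.S3360L

universe u w

section ctx

variable {q : ℕ} [Fact q.Prime] {V : Type u} [AddCommGroup V] [Module (ZMod q) V]
  {G : Type w} [Group G]
variable [Nontrivial V] [Finite V] [Finite G]
  {ρ : G →* (V ≃ₗ[ZMod q] V)} {A : Subgroup G} {K : Type} [Field K] [Fintype K]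
  [Module K V] {n m k : ℕ}

/-- **(a)** if `m = 1` then `A` is central -/
theorem Ctx.A_central (C : Ctx ρ A K n m k) (hm : m = 1) : ∀ a ∈ A, ∀ g : G, g * a = a * g := by
  have hq : q.Prime := Fact.out
  have hcard : Fintype.card K = q := by rw [C.cardK, hm, pow_one]
  let e : ZMod q ≃+* K := ZMod.ringEquivOfPrime K hq hcard
  have hnat : ∀ c : K, ∃ j : ℕ, c = (j : K) := by
    intro c
    refine ⟨(e.symm c).val, ?_⟩
    have h1 : ((e.symm c).val : ZMod q) = e.symm c := ZMod.natCast_zmod_val _
    have h2 : e ((e.symm c).val : ZMod q) = (((e.symm c).val : ℕ) : K) := map_natCast e _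
    rw [← h2, h1, RingEquiv.apply_symm_apply]
  intro a ha g
  obtain ⟨c, hc⟩ := C.K1 a ha
  obtain ⟨j, rfl⟩ := hnat c
  apply C.inj
  ext v
  rw [rho_mul_apply, rho_mul_apply, hc, hc, Nat.cast_smul_eq_nsmul, Nat.cast_smul_eq_nsmul,
    map_nsmul]

/-- **(b)** -/
theorem Ctx.cent_B_le (C : Ctx ρ A K n m k) {B : Subgroup G} {s : ℕ} (h : BProp A B s)
    (hidx : A.relIndex B = k ^ 2) (hs : ∀ (B' : Subgroup G) (s' : ℕ), BProp A B' s' → s' = s) :
    ∀ g : G, (∀ a ∈ A, g * a = a * g) → (∀ b ∈ B, g * b = b * g) → g ∈ A := by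
  intro g hgA hgB
  by_contra hgnA
  haveI := h.normal
  haveI := C.An
  let Cc : Subgroup G := Subgroup.centralizer (B : Set G) ⊓ Subgroup.centralizer (A : Set G)
  have hCcn : Cc.Normal := Subgroup.normal_inf_normal _ _
  let D : Subgroup G := A ⊔ Cc
  have hDn : D.Normal := Subgroup.sup_normal A Cc
  have hgCc : g ∈ Cc := by
    refine Subgroup.mem_inf.mpr ⟨?_, ?_⟩
    · rw [Subgroup.mem_centralizer_iff]
      intro b hb
      exact (hgB b hb).symm
    · rw [Subgroup.mem_centralizer_iff]
      intro a ha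
      exact (hgA a ha).symm
  have hAD : A < D := by
    refine lt_of_le_of_ne le_sup_left ?_
    intro heq
    apply hgnA
    rw [heq]
    exact (le_sup_right : Cc ≤ D) hgCc
  have hAcA : A ≤ Subgroup.centralizer (A : Set G) := by
    intro a ha
    rw [Subgroup.mem_centralizer_iff]
    intro b hb
    exact C.Ac b hb a ha
  have hDC : D ≤ Subgroup.centralizer (A : Set G) := sup_le hAcA inf_le_right
  have hAcB : A ≤ Subgroup.centralizer (B : Set G) := by
    intro a ha
    rw [Subgroup.mem_centralizer_iff]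
    intro b hb
    exact h.cent b hb a ha
  have hDB : D ≤ Subgroup.centralizer (B : Set G) := sup_le hAcB inf_le_left
  obtain ⟨B', s', hs', hB'n, hAB', hB'D, hexp', hcomm', hcenter'⟩ :=
    exists_B C.sol A C.An C.Ac C.Amax D hDn hAD hDC
  have hcent' : ∀ b ∈ B', ∀ a ∈ A, b * a = a * b := by
    intro b hb a ha
    have := hDC (hB'D hb)
    rw [Subgroup.mem_centralizer_iff] at this
    exact (this a ha).symm
  have h' : BProp A B' s' := ⟨hs', hB'n, hAB', hcent', hexp', hcomm', hcenter'⟩
  have hss : s' = s := hs B' s' h'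
  subst hss
  obtain ⟨p1, p2, p3, p4⟩ := sup_props A B B' s' h.normal hB'n h.lt.le hAB'.le h.exp h.comm h.center
    hexp' hcomm' hcenter' (hB'D.trans hDB)
  haveI := hB'n
  have hH : BProp A (B ⊔ B') s' := by
    refine ⟨hs', Subgroup.sup_normal B B', lt_of_lt_of_le h.lt le_sup_left, ?_, p1, p2, p3⟩
    intro b hb a ha
    have hle : B ⊔ B' ≤ Subgroup.centralizer (A : Set G) := by
      refine sup_le ?_ (hB'D.trans hDC)
      intro b hb
      rw [Subgroup.mem_centralizer_iff]
      intro a ha
      exact (h.cent b hb a ha).symm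
    have := hle hb
    rw [Subgroup.mem_centralizer_iff] at this
    exact (this a ha).symm
  have hdvd := C.relIndex_dvd hH
  have c1 : Nat.card A * A.relIndex B = Nat.card B := card_mul_relIndex_of_le h.lt.le
  have c2 : Nat.card A * A.relIndex B' = Nat.card B' := card_mul_relIndex_of_le hAB'.le
  have c3 : Nat.card A * A.relIndex (B ⊔ B') = Nat.card ↥(B ⊔ B') :=
    card_mul_relIndex_of_le hH.lt.le
  have hApos : 0 < Nat.card A := Nat.card_pos
  have hmul : A.relIndex (B ⊔ B') = A.relIndex B * A.relIndex B' := by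
    have h1 : Nat.card A * Nat.card A * A.relIndex (B ⊔ B') =
        Nat.card A * Nat.card A * (A.relIndex B * A.relIndex B') := by
      calc Nat.card A * Nat.card A * A.relIndex (B ⊔ B')
          = Nat.card ↥(B ⊔ B') * Nat.card A := by rw [← c3]; ring
        _ = Nat.card B * Nat.card B' := p4
        _ = Nat.card A * Nat.card A * (A.relIndex B * A.relIndex B') := by rw [← c1, ← c2]; ring
    exact Nat.eq_of_mul_eq_mul_left (Nat.mul_pos hApos hApos) h1
  rw [hmul, hidx] at hdvd
  have hk2 : 0 < k ^ 2 := by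
    have := C.k2
    positivity
  have h1 : A.relIndex B' ∣ 1 := by
    have h2 : k ^ 2 * A.relIndex B' ∣ k ^ 2 * 1 := by rw [mul_one]; exact hdvd
    exact (Nat.mul_dvd_mul_iff_left hk2).mp h2
  exact h'.relIndex_ne_one (Nat.dvd_one.mp h1)

end ctx

end Cfsg.Agent.S3360L
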