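import Mathlib
import Cfsg.Agent.Lib.S3360.MainE
import Cfsg.Agent.Lib.S3360.BEnd
import Cfsg.Agent.Lib.S3360.Arith

/-! # S3360: the two small cases `n = 2` and `(q, n) = (2, 6)` -/

set_option autoImplicit false
set_option linter.style.haveILetI false
set_option linter.unusedSectionVars false
set_option linter.unusedVariables false

namespace Cfsg.Agent.S3360L

universe u w

section grp

variable {G : Type u} [Group G] {A B : Subgroup G} {s : ℕ}

theorem BProp.s_dvd_card (h : BProp A B s) : s ∣ Nat.card A := by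
  obtain ⟨z, hzA, hz1, hzs⟩ := h.exists_z
  have h1 : orderOf z = s := by
    have := orderOf_dvd_of_pow_eq_one hzs
    rcases (Nat.dvd_prime h.prime).mp this with h2 | h2
    · exact absurd (orderOf_eq_one_iff.mp h2) hz1
    · exact h2
  have h2 : orderOf (⟨z, hzA⟩ : A) = s := by
    rw [← h1]
    exact Subgroup.orderOf_mk z hzA
  rw [← h2]
  exact orderOf_dvd_natCard _

theorem BProp.relIndex_eq_pow_two_le [Finite G] (h : BProp A B s) :
    ∃ t, 2 ≤ t ∧ A.relIndex B = s ^ t := by
  obtain ⟨t, ht⟩ := h.relIndex_eq_pow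
  refine ⟨t, ?_, ht⟩
  by_contra hlt
  have ht01 : t = 0 ∨ t = 1 := by omega
  rcases ht01 with rfl | rfl
  · rw [pow_zero] at ht
    exact h.relIndex_ne_one ht
  · rw [pow_one] at ht
    exact h.relIndex_ne_prime s h.prime ht

end grp

section ctx

variable {q : ℕ} [Fact q.Prime] {V : Type u} [AddCommGroup V] [Module (ZMod q) V]
  {G : Type w} [Group G]
variable [Nontrivial V] [Finite V] [Finite G]
  {ρ : G →* (V ≃ₗ[ZMod q] V)} {A : Subgroup G} {K : Type} [Field K] [Fintype K]
  [Module K V] {n m k : ℕ}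

/-- **(F1)** the case `n = 2` -/
theorem Ctx.case_n2 (C : Ctx ρ A K n m k) (hn : n = 2) {B : Subgroup G} {s : ℕ}
    (h : BProp A B s) : Nat.card V ∈ ({9, 25, 49, 121, 529, 81} : Set ℕ) := by
  have hq : q.Prime := Fact.out
  -- `k = 2`, `m = 1`
  have hmk : m = 1 ∧ k = 2 := by
    have h1 := C.nmk
    have h2 := C.k2
    have h3 := C.m1
    rw [hn] at h1
    have hm2 : m < 2 := by
      by_contra hcon
      have : 2 * 2 ≤ m * k := Nat.mul_le_mul (by omega) h2
      omega
    have hm1 : m = 1 := by omega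
    rw [hm1, one_mul] at h1
    exact ⟨hm1, h1.symm⟩
  obtain ⟨hm, hk⟩ := hmk
  -- every `B'` has index 4 and prime 2
  have hall : ∀ (B' : Subgroup G) (s' : ℕ), BProp A B' s' → s' = 2 ∧ A.relIndex B' = 4 := by
    intro B' s' h'
    have hd : A.relIndex B' ∣ 4 := by
      have := C.relIndex_dvd h'
      rw [hk] at this
      exact this
    obtain ⟨t, ht2, ht⟩ := h'.relIndex_eq_pow_two_le
    have hs2 := h'.prime.two_le
    have hle : A.relIndex B' ≤ 4 := Nat.le_of_dvd (by norm_num) hd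
    have hge : s' ^ 2 ≤ A.relIndex B' := by
      rw [ht]
      exact Nat.pow_le_pow_right h'.prime.pos ht2
    have hs' : s' = 2 := by
      by_contra hne
      have h3 : 3 ≤ s' := by omega
      have : 3 ^ 2 ≤ s' ^ 2 := Nat.pow_le_pow_left h3 2
      omega
    refine ⟨hs', ?_⟩
    rw [hs'] at hge
    omega
  obtain ⟨hs2, hidx⟩ := hall B s h
  subst hs2
  have hAcen := C.A_central hm
  have hCB : ∀ g : G, (∀ b ∈ B, g * b = b * g) → g ∈ A := by
    intro g hg
    refine C.cent_B_le h (by rw [hidx, hk]; norm_num) ?_ g (fun a ha => hAcen a ha g) hg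
    intro B' s' h'
    exact (hall B' s' h').1
  have hAcyc : IsCyclic A := A_isCyclic ρ C.inj A C.K1
  have h6 : B.index ∣ 6 :=
    index_dvd_six A B (fun a ha g => (hAcen a ha g).symm) h.normal h.lt.le hidx h.exp hCB hAcyc
  -- orders
  have c1 : Nat.card A * A.relIndex B = Nat.card B := card_mul_relIndex_of_le h.lt.le
  have c2 : Nat.card B * B.index = Nat.card G := Subgroup.card_mul_index B
  have hAd : Nat.card A ∣ q - 1 := by
    have := C.card_A_dvd
    rwa [hm, pow_one] at this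
  have hGd : q ^ 2 - 1 ∣ Nat.card G := by
    have := C.cardG
    rwa [hn] at this
  have hq1 : 1 ≤ q := hq.pos
  have hfac : q ^ 2 - 1 = (q - 1) * (q + 1) := by
    obtain ⟨c, rfl⟩ : ∃ c, q = c + 1 := ⟨q - 1, by omega⟩
    have : (c + 1) ^ 2 = c * (c + 1 + 1) + 1 := by ring
    rw [this]
    simp
  have hG24 : Nat.card G ∣ (q - 1) * 24 := by
    rw [← c2, ← c1, hidx]
    obtain ⟨u, hu⟩ := hAd
    obtain ⟨w, hw⟩ := h6
    rw [hu]
    refine ⟨u * w, ?_⟩
    have h24 : (24 : ℕ) = 4 * 6 := by norm_num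
    rw [h24, hw]
    ring
  have hdvd : (q - 1) * (q + 1) ∣ (q - 1) * 24 := by
    rw [← hfac]
    exact hGd.trans hG24
  -- `q ≠ 2`
  have h2A : 2 ∣ Nat.card A := h.s_dvd_card
  have hq2 : q ≠ 2 := by
    intro h2
    rw [h2] at hAd
    have : Nat.card A ∣ 1 := hAd
    have h3 : 2 ∣ 1 := h2A.trans this
    omega
  have hq1' : 0 < q - 1 := by
    have := hq.two_le
    omega
  have h24 : (q + 1) ∣ 24 := (Nat.mul_dvd_mul_iff_left hq1').mp hdvd
  have hres := arith_n2 q hq hq2 h24
  have hcardV : Nat.card V = q ^ 2 := by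
    rw [Module.natCard_eq_pow_finrank (K := ZMod q) (V := V), Nat.card_zmod, C.dimF, hn]
  rw [hcardV]
  exact hres

/-- **(F2)** the case `(q, n) = (2, 6)` -/
theorem Ctx.case_26 (C : Ctx ρ A K n m k) (hq : q = 2) (hn : n = 6) {B : Subgroup G} {s : ℕ}
    (h : BProp A B s) : False := by
  subst hq
  have hmk6 : m * k = 6 := by rw [← C.nmk, hn]
  have hk2 := C.k2
  have hm1 := C.m1
  have hAd := C.card_A_dvd
  -- every `B'` forces `m = 2`, `k = 3`, `s' = 3`, index 9
  have hall : ∀ (B' : Subgroup G) (s' : ℕ), BProp A B' s' →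
      m = 2 ∧ k = 3 ∧ s' = 3 ∧ A.relIndex B' = 9 := by
    intro B' s' h'
    have hsA : s' ∣ 2 ^ m - 1 := h'.s_dvd_card.trans hAd
    obtain ⟨t, ht2, ht⟩ := h'.relIndex_eq_pow_two_le
    have hd : s' ^ t ∣ k ^ 2 := by
      rw [← ht]
      exact C.relIndex_dvd h'
    have hs2 := h'.prime.two_le
    have hsq : s' ^ 2 ∣ k ^ 2 := (pow_dvd_pow s' ht2).trans hd
    have hsk : s' ∣ k := (Nat.pow_dvd_pow_iff (by norm_num)).mp hsq
    have hm6 : m ≤ 6 := by nlinarith
    have hk6 : k ≤ 6 := by nlinarith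
    have hcases : (m = 1 ∧ k = 6) ∨ (m = 2 ∧ k = 3) ∨ (m = 3 ∧ k = 2) := by
      interval_cases m <;> interval_cases k <;> simp_all
    rcases hcases with ⟨rfl, rfl⟩ | ⟨rfl, rfl⟩ | ⟨rfl, rfl⟩
    · exfalso
      have : s' ∣ 1 := by simpa using hsA
      have := Nat.le_of_dvd (by norm_num) this
      omega
    · have hs3 : s' ∣ 3 := by simpa using hsA
      have hs' : s' = 3 := by
        rcases (Nat.dvd_prime Nat.prime_three).mp hs3 with h1 | h1
        · omega
        · exact h1
      refine ⟨rfl, rfl, hs', ?_⟩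
      subst hs'
      rw [ht]
      -- 3^t ∣ 9, t ≥ 2
      have hle : 3 ^ t ≤ 3 ^ 2 := Nat.le_of_dvd (by norm_num) hd
      have ht' : t ≤ 2 := (Nat.pow_le_pow_iff_right (by norm_num)).mp hle
      have : t = 2 := by omega
      rw [this]
      norm_num
    · exfalso
      have hs7 : s' ∣ 7 := by simpa using hsA
      have hs' : s' = 7 := by
        rcases (Nat.dvd_prime (by norm_num : Nat.Prime 7)).mp hs7 with h1 | h1
        · omega
        · exact h1
      rw [hs'] at hsk
      have := Nat.le_of_dvd (by norm_num) hsk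
      omega
  obtain ⟨rfl, rfl, rfl, hidx⟩ := hall B s h
  have hA3 : Nat.card A ∣ 3 := by simpa using hAd
  -- an element of order 7
  have h7 : Nat.Prime 7 := by norm_num
  haveI : Fact (Nat.Prime 7) := ⟨h7⟩
  have h7G : 7 ∣ Nat.card G := by
    have := C.cardG
    rw [hn] at this
    exact Dvd.dvd.trans (by norm_num) this
  obtain ⟨y, hyord⟩ := exists_prime_orderOf_dvd_card' (G := G) 7 h7G
  have hy : y ^ 7 = 1 := by
    rw [← hyord]
    exact pow_orderOf_eq_one y
  have hyA : ∀ a ∈ A, y * a = a * y := by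
    refine centralizes_of_ppd ρ C.inj A C.K1 C.K3 2 C.cardK y 7 h7 hy ?_ (by norm_num)
    intro j hj hj2
    interval_cases j <;> norm_num
  have h7A : ¬ 7 ∣ Nat.card A := by
    intro hd
    have := Nat.le_of_dvd (by norm_num) (hd.trans hA3)
    omega
  have hyB : ∀ b ∈ B, y * b = b * y := by
    by_contra hyB
    obtain ⟨e, he1, he2, hde, -⟩ := h.ppd_dvd y 7 h7 hy hyA hyB h7A 2 (by rw [hidx]; norm_num)
    interval_cases e <;> omega
  have hyinA : y ∈ A := by
    refine C.cent_B_le h (by rw [hidx]; norm_num) ?_ y hyA hyB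
    intro B' s' h'
    exact (hall B' s' h').2.2.1
  have h1 : orderOf (⟨y, hyinA⟩ : A) = 7 := by
    rw [← hyord]
    exact Subgroup.orderOf_mk y hyinA
  apply h7A
  rw [← h1]
  exact orderOf_dvd_natCard _

end ctx

end Cfsg.Agent.S3360L
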