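import Mathlib
import Cfsg.Agent.Lib.Helper5.GL1.Main

/-!
# S3360 (K): the field generated by an abelian normal subgroup of a transitive linear group

`ρ : G →* GL(V)` transitive on the non-zero vectors, `A ⊴ G` abelian.  Then the subalgebra
`R = F_q[ρ(A)]` of `End V` is a field: every non-zero `κ ∈ R` is injective.
`exists_field` packages the consequences for a copy `K : Type` of `R`.
-/

set_option autoImplicit false
set_option linter.unusedSectionVars false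
set_option linter.style.haveILetI false
set_option linter.unusedVariables false

namespace Cfsg.Agent.S3360L

universe u v w

/-- shrink a finite commutative domain acting on `V` to a field in `Type` -/
theorem shrink_field {V : Type v} [AddCommGroup V] (R : Type w) [CommRing R] [IsDomain R]
    [Finite R] [Module R V] :
    ∃ (K : Type) (_ : Field K) (_ : Fintype K) (_ : Module K V) (ψ : R ≃+* K),
      ∀ (r : R) (v : V), ψ r • v = r • v := by
  classical
  have : Fintype R := Fintype.ofFinite R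
  have : Small.{0} R := inferInstance
  let ψ : R ≃+* Shrink.{0} R := (Shrink.ringEquiv R).symm
  have : Fintype (Shrink.{0} R) := Fintype.ofEquiv R (equivShrink R)
  letI : Field (Shrink.{0} R) := Fintype.fieldOfDomain (Shrink.{0} R)
  refine ⟨Shrink.{0} R, inferInstance, inferInstance,
    Module.compHom V (ψ.symm : Shrink.{0} R →+* R), ψ, ?_⟩
  intro r v
  show ψ.symm (ψ r) • v = r • v
  rw [RingEquiv.symm_apply_apply]

section main

variable {q : ℕ} [Fact q.Prime] {V : Type v} [AddCommGroup V] [Module (ZMod q) V] [Finite V]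
  [Nontrivial V] {G : Type u} [Group G] (ρ : G →* (V ≃ₗ[ZMod q] V))

local notation "tE" => Cfsg.Agent.Lib.Helper5.GL1.toEnd

/-- the algebra generated by `ρ(A)` -/
abbrev RA (A : Subgroup G) : Subalgebra (ZMod q) (Module.End (ZMod q) V) :=
  Algebra.adjoin (ZMod q) (Cfsg.Agent.Lib.Helper5.GL1.genSet q ρ A)

theorem RA_gen (A : Subgroup G) (a : G) (ha : a ∈ A) : tE (ρ a) ∈ RA ρ A :=
  Algebra.subset_adjoin ⟨a, ha, rfl⟩

theorem RA_comm (A : Subgroup G) (hAc : ∀ a ∈ A, ∀ b ∈ A, a * b = b * a) :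
    ∀ x ∈ RA ρ A, ∀ y ∈ RA ρ A, x * y = y * x := by
  intro x hx y hy
  have hS := Cfsg.Agent.Lib.Helper5.GL1.genSet_comm q ρ A hAc
  have hc := Algebra.isMulCommutative_adjoin (ZMod q) hS
  have := hc.is_comm.comm (⟨x, hx⟩ : RA ρ A) ⟨y, hy⟩
  exact congrArg Subtype.val this

theorem RA_conj (A : Subgroup G) (hAn : A.Normal) (g : G) (f : Module.End (ZMod q) V)
    (hf : f ∈ RA ρ A) : tE (ρ g) * f * tE (ρ g⁻¹) ∈ RA ρ A :=
  Cfsg.Agent.Lib.Helper5.GL1.conj_mem_adjoin q ρ A hAn g f hf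

theorem RA_conj' (A : Subgroup G) (hAn : A.Normal) (g : G) (f : Module.End (ZMod q) V)
    (hf : f ∈ RA ρ A) : tE (ρ g⁻¹) * f * tE (ρ g) ∈ RA ρ A := by
  have := RA_conj ρ A hAn g⁻¹ f hf
  rwa [inv_inv] at this

theorem rho_inv_apply (g : G) (x : V) : ρ g⁻¹ (ρ g x) = x := by
  rw [← LinearEquiv.mul_apply, ← map_mul, inv_mul_cancel, map_one]; rfl

theorem rho_apply_inv (g : G) (x : V) : ρ g (ρ g⁻¹ x) = x := by
  rw [← LinearEquiv.mul_apply, ← map_mul, mul_inv_cancel, map_one]; rfl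

/-- `w` generates a minimal `R`-submodule -/
def IsMinVec (A : Subgroup G) (w : V) : Prop :=
  ∀ r ∈ RA ρ A, r w ≠ 0 → ∃ r' ∈ RA ρ A, r' (r w) = w

theorem exists_minVec (A : Subgroup G) : ∃ v₀ : V, v₀ ≠ 0 ∧ IsMinVec ρ A v₀ := by
  classical
  let orb : V → Set V := fun w => {v | ∃ r ∈ RA ρ A, r w = v}
  obtain ⟨v₁, hv₁⟩ := exists_ne (0 : V)
  obtain ⟨v₀, hv₀, hmin⟩ := Set.exists_min_image {w : V | w ≠ 0} (fun w => (orb w).ncard)
    (Set.toFinite _) ⟨v₁, hv₁⟩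
  refine ⟨v₀, hv₀, ?_⟩
  intro r hr hx
  have hsub : orb (r v₀) ⊆ orb v₀ := by
    rintro _ ⟨r', hr', rfl⟩
    exact ⟨r' * r, Subalgebra.mul_mem _ hr' hr, rfl⟩
  have heq : orb (r v₀) = orb v₀ :=
    Set.eq_of_subset_of_ncard_le hsub (hmin _ hx) (Set.toFinite _)
  have h1 : v₀ ∈ orb v₀ := ⟨1, Subalgebra.one_mem _, rfl⟩
  rw [← heq] at h1
  obtain ⟨r', hr', h⟩ := h1
  exact ⟨r', hr', h⟩

theorem minVec_map (A : Subgroup G) (hAn : A.Normal) (g : G) (v₀ : V)
    (h : IsMinVec ρ A v₀) : IsMinVec ρ A (ρ g v₀) := by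
  intro r hr hx
  have hr1 : tE (ρ g⁻¹) * r * tE (ρ g) ∈ RA ρ A := RA_conj' ρ A hAn g r hr
  have hx1 : (tE (ρ g⁻¹) * r * tE (ρ g)) v₀ ≠ 0 := by
    show ρ g⁻¹ (r (ρ g v₀)) ≠ 0
    intro h0
    apply hx
    have h1 := congrArg (ρ g) h0
    rwa [map_zero, rho_apply_inv] at h1
  obtain ⟨r₂, hr₂, h2⟩ := h _ hr1 hx1
  refine ⟨tE (ρ g) * r₂ * tE (ρ g⁻¹), RA_conj ρ A hAn g r₂ hr₂, ?_⟩
  show ρ g (r₂ (ρ g⁻¹ (r (ρ g v₀)))) = ρ g v₀
  have h3 : r₂ (ρ g⁻¹ (r (ρ g v₀))) = v₀ := h2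
  rw [h3]

theorem minVec_all (htrans : ∀ v w : V, v ≠ 0 → w ≠ 0 → ∃ g : G, ρ g v = w)
    (A : Subgroup G) (hAn : A.Normal) : ∀ w : V, w ≠ 0 → IsMinVec ρ A w := by
  intro w hw
  obtain ⟨v₀, hv₀, hmin⟩ := exists_minVec ρ A
  obtain ⟨g, rfl⟩ := htrans v₀ w hv₀ hw
  exact minVec_map ρ A hAn g v₀ hmin

theorem ker_all (A : Subgroup G) (hAc : ∀ a ∈ A, ∀ b ∈ A, a * b = b * a)
    (hmin : ∀ w : V, w ≠ 0 → IsMinVec ρ A w)
    (κ : Module.End (ZMod q) V) (hκ : κ ∈ RA ρ A) (w : V) (hw : w ≠ 0) (hκw : κ w = 0)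
    (u : V) : κ u = 0 := by
  by_contra hκu
  have hu : u ≠ 0 := by
    rintro rfl
    exact hκu (map_zero _)
  have hcomm := RA_comm ρ A hAc
  by_cases hcase : ∃ r₁ ∈ RA ρ A, ∃ r₂ ∈ RA ρ A, r₁ u = r₂ w ∧ r₁ u ≠ 0
  · obtain ⟨r₁, hr₁, r₂, hr₂, h12, hne⟩ := hcase
    obtain ⟨r', hr', h'⟩ := hmin u hu r₁ hr₁ hne
    apply hκu
    rw [← h', h12]
    have h1 : κ (r' (r₂ w)) = (κ * (r' * r₂)) w := rfl
    rw [h1, hcomm κ hκ (r' * r₂) (Subalgebra.mul_mem _ hr' hr₂)]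
    show r' (r₂ (κ w)) = 0
    rw [hκw, map_zero, map_zero]
  · have hcase' : ∀ r₁ ∈ RA ρ A, ∀ r₂ ∈ RA ρ A, r₁ u = r₂ w → r₁ u = 0 := by
      intro r₁ hr₁ r₂ hr₂ h12
      by_contra hne
      exact hcase ⟨r₁, hr₁, r₂, hr₂, h12, hne⟩
    have huw : u + w ≠ 0 := by
      intro h0
      have h1 : (1 : Module.End (ZMod q) V) u = (-1 : Module.End (ZMod q) V) w := by
        show u = -w
        exact eq_neg_of_add_eq_zero_left h0
      exact hu (hcase' 1 (Subalgebra.one_mem _) (-1)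
        (Subalgebra.neg_mem _ (Subalgebra.one_mem _)) h1)
    have hκuw : κ (u + w) ≠ 0 := by
      rw [map_add, hκw, add_zero]
      exact hκu
    obtain ⟨r', hr', h'⟩ := hmin (u + w) huw κ hκ hκuw
    have h1 : (r' * κ) u = u + w := by
      show r' (κ u) = u + w
      rw [map_add, hκw, add_zero] at h'
      exact h'
    have h2 : (r' * κ - 1) u = (1 : Module.End (ZMod q) V) w := by
      show (r' * κ) u - u = w
      rw [h1]
      abel
    have h3 := hcase' (r' * κ - 1)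
      (Subalgebra.sub_mem _ (Subalgebra.mul_mem _ hr' hκ) (Subalgebra.one_mem _)) 1
      (Subalgebra.one_mem _) h2
    rw [h2] at h3
    exact hw h3

theorem inj_of_ne_zero (A : Subgroup G) (hAc : ∀ a ∈ A, ∀ b ∈ A, a * b = b * a)
    (hmin : ∀ w : V, w ≠ 0 → IsMinVec ρ A w)
    (κ : Module.End (ZMod q) V) (hκ : κ ∈ RA ρ A) (h0 : κ ≠ 0) : Function.Injective κ := by
  intro x y hxy
  by_contra hne
  apply h0
  have hw : x - y ≠ 0 := sub_ne_zero.mpr hne
  have hκw : κ (x - y) = 0 := by rw [map_sub, hxy, sub_self]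
  ext u
  exact ker_all ρ A hAc hmin κ hκ (x - y) hw hκw u

theorem RA_commute_of_centralizes (A : Subgroup G) (g : G) (hg : ∀ a ∈ A, g * a = a * g)
    (r : Module.End (ZMod q) V) (hr : r ∈ RA ρ A) : ∀ v : V, ρ g (r v) = r (ρ g v) := by
  induction hr using Algebra.adjoin_induction with
  | mem x hx =>
    obtain ⟨a, ha, rfl⟩ := hx
    intro v
    show ρ g (ρ a v) = ρ a (ρ g v)
    rw [← LinearEquiv.mul_apply, ← LinearEquiv.mul_apply, ← map_mul, ← map_mul, hg a ha]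
  | algebraMap c =>
    intro v
    show ρ g (c • v) = c • ρ g v
    rw [map_smul]
  | add x y hx hy ihx ihy =>
    intro v
    show ρ g (x v + y v) = x (ρ g v) + y (ρ g v)
    rw [map_add, ihx, ihy]
  | mul x y hx hy ihx ihy =>
    intro v
    show ρ g (x (y v)) = x (y (ρ g v))
    rw [ihx, ihy]

theorem RA_invariant (A : Subgroup G) (W : Submodule (ZMod q) V)
    (hW : ∀ a ∈ A, ∀ v ∈ W, ρ a v ∈ W)
    (r : Module.End (ZMod q) V) (hr : r ∈ RA ρ A) : ∀ v ∈ W, r v ∈ W := by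
  induction hr using Algebra.adjoin_induction with
  | mem x hx =>
    obtain ⟨a, ha, rfl⟩ := hx
    intro v hv
    exact hW a ha v hv
  | algebraMap c =>
    intro v hv
    show c • v ∈ W
    exact W.smul_mem c hv
  | add x y hx hy ihx ihy =>
    intro v hv
    show x v + y v ∈ W
    exact W.add_mem (ihx v hv) (ihy v hv)
  | mul x y hx hy ihx ihy =>
    intro v hv
    show x (y v) ∈ W
    exact ihx _ (ihy v hv)

/-- **(K)** the field `K = F_q[ρ(A)]` acting on `V`. -/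
theorem exists_field [Finite G] (hρ : Function.Injective ρ)
    (htrans : ∀ v w : V, v ≠ 0 → w ≠ 0 → ∃ g : G, ρ g v = w)
    (A : Subgroup G) (hAn : A.Normal) (hAc : ∀ a ∈ A, ∀ b ∈ A, a * b = b * a) :
    ∃ (K : Type) (_ : Field K) (_ : Fintype K) (_ : Module K V),
      (∀ a ∈ A, ∃ c : K, ∀ v, ρ a v = c • v) ∧
      (∀ g : G, (∀ a ∈ A, g * a = a * g) → ∀ (c : K) v, ρ g (c • v) = c • ρ g v) ∧
      (∀ (g : G) (c : K), ∃ c' : K, ∀ v, ρ g (c • v) = c' • ρ g v) ∧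
      (∀ W : Submodule (ZMod q) V, (∀ a ∈ A, ∀ v ∈ W, ρ a v ∈ W) →
        ∀ (c : K), ∀ v ∈ W, c • v ∈ W) ∧
      (∃ m, Nat.card K = q ^ m) := by
  classical
  have hmin := minVec_all ρ htrans A hAn
  have hinj := inj_of_ne_zero ρ A hAc hmin
  have hcommR := RA_comm ρ A hAc
  let R : Subalgebra (ZMod q) (Module.End (ZMod q) V) := RA ρ A
  letI : CommRing R :=
    { (inferInstance : Ring R) with
      mul_comm := fun x y => Subtype.ext (hcommR x x.2 y y.2) }
  haveI : Finite (Module.End (ZMod q) V) :=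
    Finite.of_injective (fun f => (f : V → V)) DFunLike.coe_injective
  obtain ⟨v₀, hv₀⟩ := exists_ne (0 : V)
  haveI : Nontrivial R := by
    refine ⟨0, 1, fun h => hv₀ ?_⟩
    have h2 : ((0 : R) : Module.End (ZMod q) V) v₀ = ((1 : R) : Module.End (ZMod q) V) v₀ := by
      rw [h]
    exact h2.symm
  haveI : NoZeroDivisors R := ⟨by
    intro x y hxy
    by_contra hcon
    have hcon := not_or.mp hcon
    have hy : Function.Injective (y : Module.End (ZMod q) V) :=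
      hinj y y.2 (fun h => hcon.2 (Subtype.ext h))
    have hys : Function.Surjective (y : Module.End (ZMod q) V) :=
      Finite.injective_iff_surjective.mp hy
    apply hcon.1
    apply Subtype.ext
    apply LinearMap.ext
    intro v
    obtain ⟨w, rfl⟩ := hys v
    have h2 : ((x * y : R) : Module.End (ZMod q) V) w = ((0 : R) : Module.End (ZMod q) V) w := by
      rw [hxy]
    exact h2⟩
  haveI : IsDomain R := NoZeroDivisors.to_isDomain R
  haveI : Finite R := Subtype.finite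
  have hsm : ∀ (r : R) (v : V), r • v = (r : Module.End (ZMod q) V) v := fun r v => rfl
  obtain ⟨K, hK1, hK2, hK3, ψ, hψ⟩ := shrink_field (V := V) R
  refine ⟨K, hK1, hK2, hK3, ?_, ?_, ?_, ?_, ?_⟩
  · intro a ha
    refine ⟨ψ ⟨tE (ρ a), RA_gen ρ A a ha⟩, fun v => ?_⟩
    rw [hψ, hsm]
    rfl
  · intro g hg c v
    have h1 : ∀ x : V, c • x = ((ψ.symm c : R) : Module.End (ZMod q) V) x := by
      intro x
      rw [← hsm, ← hψ, RingEquiv.apply_symm_apply]
    rw [h1, h1]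
    exact RA_commute_of_centralizes ρ A g hg _ (ψ.symm c).2 v
  · intro g c
    have h1 : ∀ x : V, c • x = ((ψ.symm c : R) : Module.End (ZMod q) V) x := by
      intro x
      rw [← hsm, ← hψ, RingEquiv.apply_symm_apply]
    refine ⟨ψ ⟨tE (ρ g) * (ψ.symm c : R) * tE (ρ g⁻¹), RA_conj ρ A hAn g _ (ψ.symm c).2⟩,
      fun v => ?_⟩
    rw [hψ, hsm, h1]
    show ρ g (((ψ.symm c : R) : Module.End (ZMod q) V) v)
      = ρ g (((ψ.symm c : R) : Module.End (ZMod q) V) (ρ g⁻¹ (ρ g v)))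
    rw [rho_inv_apply]
  · intro W hW c v hv
    have h1 : c • v = ((ψ.symm c : R) : Module.End (ZMod q) V) v := by
      rw [← hsm, ← hψ, RingEquiv.apply_symm_apply]
    rw [h1]
    exact RA_invariant ρ A W hW _ (ψ.symm c).2 v hv
  · refine ⟨Module.finrank (ZMod q) R, ?_⟩
    rw [← Nat.card_congr ψ.toEquiv, Module.natCard_eq_pow_finrank (K := ZMod q) (V := R),
      Nat.card_zmod]

end main

end Cfsg.Agent.S3360L
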