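import Mathlib
import Cfsg.Agent.Lib.S3360.MainE
import Cfsg.Agent.Lib.S3360.BEnd
import Cfsg.Agent.Lib.S3360.Arith
import Cfsg.Agent.H9.Zsigmondy

/-! # S3360, main chain, part F: `r² ∤ |G|` and the general case `n ≥ 3`, `(q,n) ≠ (2,6)` -/

set_option autoImplicit false
set_option linter.style.haveILetI false
set_option linter.unusedSectionVars false
set_option linter.unusedVariables false

namespace Cfsg.Agent.S3360L

universe u w

theorem BProp.prime_dvd_card {G : Type u} [Group G] [Finite G] {A B : Subgroup G} {s : ℕ}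
    (h : BProp A B s) : s ∣ Nat.card A := by
  obtain ⟨z, hzA, hz1, hzs⟩ := h.exists_z
  have h1 : orderOf z = s := by
    have := orderOf_dvd_of_pow_eq_one hzs
    rcases (Nat.dvd_prime h.prime).mp this with h2 | h2
    · exact absurd (orderOf_eq_one_iff.mp h2) hz1
    · exact h2
  have h2 : orderOf (⟨z, hzA⟩ : A) = s := by
    rw [← h1]; exact Subgroup.orderOf_mk z hzA
  rw [← h2]
  exact orderOf_dvd_natCard _

section ctx

variable {q : ℕ} [Fact q.Prime] {V : Type u} [AddCommGroup V] [Module (ZMod q) V]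
  {G : Type w} [Group G]
variable [Nontrivial V] [Finite V] [Finite G]
  {ρ : G →* (V ≃ₗ[ZMod q] V)} {A : Subgroup G} {K : Type} [Field K] [Fintype K]
  [Module K V] {n m k : ℕ}

theorem Ctx.card_V (C : Ctx ρ A K n m k) : Nat.card V = q ^ n := by
  rw [Module.natCard_eq_pow_finrank (K := ZMod q) (V := V), Nat.card_zmod, C.dimF]

/-- **(c)** -/
theorem Ctx.no_sq (C : Ctx ρ A K n m k) (hm : m = 1) {B : Subgroup G} (h : BProp A B 2)
    (d : ℕ) (hd : 1 ≤ d) (hidx : A.relIndex B = 2 ^ (2 * d)) (r : ℕ) (hr : r.Prime)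
    (hrd : r = 2 ^ d + 1) (hrA : ¬ r ∣ Nat.card A)
    (hcent : ∀ g : G, (∀ b ∈ B, g * b = b * g) → g ∈ A) : ¬ r ^ 2 ∣ Nat.card G := by
  intro hsq
  haveI : Fact r.Prime := ⟨hr⟩
  haveI := h.normal
  haveI := C.An
  have hcA := C.A_central hm
  -- elements of order `r`
  have key : ∀ y : G, orderOf y = r → ∀ b ∈ B, y * b = b * y → b ∈ A := by
    intro y hy b hb hyb
    have hyr : y ^ r = 1 := by rw [← hy]; exact pow_orderOf_eq_one y
    have hyA : ∀ a ∈ A, y * a = a * y := fun a ha => hcA a ha y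
    have hyB : ¬ ∀ b ∈ B, y * b = b * y := by
      intro hall
      have hyAm : y ∈ A := hcent y hall
      have h1 : orderOf (⟨y, hyAm⟩ : A) = r := by
        rw [← hy]; exact Subgroup.orderOf_mk y hyAm
      apply hrA
      rw [← h1]
      exact orderOf_dvd_natCard _
    obtain ⟨e, he1, het, hre, hcard⟩ := h.ppd_dvd y r hr hyr hyA hyB hrA (2 * d) hidx
    have he : e = 2 * d :=
      (ppd_arith_base r 2 d e 1 le_rfl hd le_rfl (by rw [hrd]; ring) he1 het hre).2
    have hAC : A ≤ B ⊓ Subgroup.centralizer {y} := by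
      intro a ha
      refine Subgroup.mem_inf.mpr ⟨h.lt.le ha, ?_⟩
      rw [Subgroup.mem_centralizer_singleton_iff]
      exact (hyA a ha).symm
    have hcB : Nat.card A * 2 ^ (2 * d) = Nat.card B := by
      rw [← hidx]; exact card_mul_relIndex_of_le h.lt.le
    have hle : Nat.card (B ⊓ Subgroup.centralizer {y} : Subgroup G) ≤ Nat.card A := by
      rw [he, ← hcB] at hcard
      exact le_of_eq (Nat.eq_of_mul_eq_mul_right (by positivity) hcard)
    have heq : A = B ⊓ Subgroup.centralizer {y} := Subgroup.eq_of_le_of_card_ge hAC hle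
    rw [heq]
    refine Subgroup.mem_inf.mpr ⟨hb, ?_⟩
    rw [Subgroup.mem_centralizer_singleton_iff]
    exact hyb.symm
  obtain ⟨R, hR⟩ := Sylow.exists_subgroup_card_pow_prime (G := G) r hsq
  haveI : Finite R := inferInstance
  let X : Set G := {x | x ∈ B ∧ x ∉ A}
  have hst : ∀ g ∈ R, ∀ x ∈ X, g * x * g⁻¹ ∈ X := by
    intro g hg x hx
    refine ⟨h.normal.conj_mem x hx.1 g, ?_⟩
    intro hmem
    apply hx.2
    have := C.An.conj_mem _ hmem g⁻¹
    have e : g⁻¹ * (g * x * g⁻¹) * g⁻¹⁻¹ = x := by group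
    rw [e] at this
    exact this
  have hfree : ∀ g ∈ R, g ≠ 1 → ∀ x ∈ X, g * x * g⁻¹ ≠ x := by
    intro g hg hg1 x hx hgx
    have hord : orderOf g ∣ r ^ 2 := by
      have h1 : orderOf (⟨g, hg⟩ : R) = orderOf g := Subgroup.orderOf_mk g hg
      rw [← h1, ← hR]
      exact orderOf_dvd_natCard _
    obtain ⟨j, hj2, hj⟩ := (Nat.dvd_prime_pow hr).mp hord
    have hj0 : j ≠ 0 := by
      intro h0
      rw [h0, pow_zero] at hj
      exact hg1 (orderOf_eq_one_iff.mp hj)
    have hrdvd : r ∣ orderOf g := by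
      rw [hj]; exact dvd_pow_self r hj0
    have hne : orderOf g ≠ 0 := by
      rw [hj]; exact pow_ne_zero _ hr.pos.ne'
    have hy : orderOf (g ^ (orderOf g / r)) = r := orderOf_pow_orderOf_div hne hrdvd
    have hcomm : g * x = x * g := by
      calc g * x = (g * x * g⁻¹) * g := by group
        _ = x * g := by rw [hgx]
    have hcomm' : g ^ (orderOf g / r) * x = x * g ^ (orderOf g / r) :=
      (Commute.pow_left (show Commute g x from hcomm) _)
    exact hx.2 (key _ hy x hx.1 hcomm')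
  have hdvd := card_dvd_of_free_conj R X hst hfree
  rw [hR] at hdvd
  -- `|X| = |B| - |A|`
  have hXcard : Nat.card X = Nat.card B - Nat.card A := by
    have h1 : X = (B : Set G) \ (A : Set G) := rfl
    rw [Nat.card_coe_set_eq, h1, Set.ncard_sdiff (show (A : Set G) ⊆ (B : Set G) from h.lt.le),
      ← Nat.card_coe_set_eq, ← Nat.card_coe_set_eq]
    rfl
  have hcB : Nat.card A * 2 ^ (2 * d) = Nat.card B := by
    rw [← hidx]; exact card_mul_relIndex_of_le h.lt.le
  have h2d : 1 ≤ 2 ^ d := Nat.one_le_pow _ _ (by norm_num)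
  have hX2 : Nat.card X = Nat.card A * (2 ^ d - 1) * r := by
    rw [hXcard, ← hcB, hrd]
    have e1 : 2 ^ (2 * d) = 2 ^ d * 2 ^ d := by rw [two_mul, pow_add]
    rw [e1]
    obtain ⟨w, hw⟩ : ∃ w, 2 ^ d = w + 1 := ⟨2 ^ d - 1, by omega⟩
    rw [hw, Nat.add_sub_cancel]
    have e2 : Nat.card A * ((w + 1) * (w + 1)) - Nat.card A =
        Nat.card A * ((w + 1) * (w + 1) - 1) := by
      rw [Nat.mul_sub, mul_one]
    rw [e2]
    have e3 : (w + 1) * (w + 1) - 1 = w * (w + 1 + 1) := by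
      have : (w + 1) * (w + 1) = w * (w + 1 + 1) + 1 := by ring
      omega
    rw [e3]
    ring
  rw [hX2, pow_two] at hdvd
  have h3 : r ∣ Nat.card A * (2 ^ d - 1) := (Nat.mul_dvd_mul_iff_right hr.pos).mp hdvd
  rcases (Nat.Prime.dvd_mul hr).mp h3 with h4 | h4
  · exact hrA h4
  · have hd2 : 2 ≤ 2 ^ d := by
      calc 2 = 2 ^ 1 := (pow_one 2).symm
        _ ≤ 2 ^ d := Nat.pow_le_pow_right (by norm_num) hd
    have := Nat.le_of_dvd (by omega) h4
    omega

/-- **general case** -/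
theorem Ctx.case_general (C : Ctx ρ A K n m k) (hn3 : 3 ≤ n) (h26 : ¬ (q = 2 ∧ n = 6))
    {B : Subgroup G} {s : ℕ} (h : BProp A B s) : Nat.card V = 81 := by
  have hq : q.Prime := Fact.out
  obtain ⟨r, hr, hdvd, hprim⟩ := Cfsg.Agent.H9.Zsigmondy.zsigmondy q n hq.one_lt (by omega) h26
    (by rintro ⟨h2, -⟩; omega)
  obtain ⟨hm, hs, d, hd1, hidx, hkd, hnd, hrd⟩ := C.core' h r hr hdvd hprim
  subst hs
  have hs' : ∀ (B' : Subgroup G) (s' : ℕ), BProp A B' s' → s' = 2 := by
    intro B' s' h'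
    exact (C.core' h' r hr hdvd hprim).2.1
  have hidx' : A.relIndex B = k ^ 2 := by
    rw [hidx, hkd, ← pow_mul, mul_comm]
  have hcA := C.A_central hm
  have hcent : ∀ g : G, (∀ b ∈ B, g * b = b * g) → g ∈ A :=
    fun g hg => C.cent_B_le h hidx' hs' g (fun a ha => hcA a ha g) hg
  have hmn := C.m_lt_n
  have hrA : ¬ r ∣ Nat.card A := by
    intro hd
    exact hprim m C.m1 hmn (hd.trans C.card_A_dvd)
  have hnosq := C.no_sq hm h d hd1 hidx r hr hrd hrA hcent
  have hnosq' : ¬ r ^ 2 ∣ q ^ (2 ^ d) - 1 := by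
    intro h1
    apply hnosq
    rw [← hnd] at h1
    exact h1.trans C.cardG
  have hq2 : q ≠ 2 := by
    intro hq2
    have h1 : 2 ∣ Nat.card A := h.prime_dvd_card
    have h2 := h1.trans C.card_A_dvd
    rw [hm, hq2] at h2
    norm_num at h2
  have hd2 : 2 ≤ d := by
    by_contra hlt
    have hd : d = 1 := by omega
    rw [hd] at hnd
    omega
  have hppd : ∀ p : ℕ, p.Prime → p ∣ q ^ (2 ^ d) - 1 →
      (∀ j, 0 < j → j < 2 ^ d → ¬ p ∣ q ^ j - 1) → p = r := by
    intro p hp hpd hpp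
    rw [← hnd] at hpd hpp
    obtain ⟨-, -, d', -, -, -, hnd', hpd'⟩ := C.core' h p hp hpd hpp
    have hdd : d' = d := by
      apply Nat.pow_right_injective (le_refl 2)
      show 2 ^ d' = 2 ^ d
      rw [← hnd', ← hnd]
    rw [hpd', hdd, hrd]
  obtain ⟨hq3, hd2'⟩ := arith_fermat q d r hq hq2 hd2 hrd hr hppd hnosq'
  rw [C.card_V, hnd, hq3, hd2']
  norm_num

end ctx

end Cfsg.Agent.S3360L
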