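import Mathlib
import Cfsg.Agent.Lib.S3360.MainF
import Cfsg.Agent.Lib.S3360.KField
import Cfsg.Agent.Lib.S3360.CA
import Cfsg.Agent.Lib.Helper5.GL1.Main

/-! # S3360, main chain, part G: construction of the context and the final case distinction -/

set_option autoImplicit false
set_option linter.style.haveILetI false
set_option linter.unusedSectionVars false
set_option linter.unusedVariables false

namespace Cfsg.Agent.S3360L

universe u w

section ctx

variable {q : ℕ} [Fact q.Prime] {V : Type u} [AddCommGroup V] [Module (ZMod q) V]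
  {G : Type w} [Group G]
variable [Nontrivial V] [Finite V] [Finite G]
  {ρ : G →* (V ≃ₗ[ZMod q] V)} {A : Subgroup G} {K : Type} [Field K] [Fintype K]
  [Module K V] {n m k : ℕ}

/-- **M1** -/
theorem Ctx.exists_centralizing (C : Ctx ρ A K n m k) :
    ∃ g : G, (∀ a ∈ A, g * a = a * g) ∧ g ∉ A := by
  by_contra hcon
  push Not at hcon
  have hq : q.Prime := Fact.out
  have hle := card_le_sq_of_centralizer_le A C.An (A_isCyclic ρ C.inj A C.K1) hcon
  have hAd := C.card_A_dvd
  have hqm : 2 ≤ q ^ m := by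
    calc 2 ≤ q := hq.two_le
      _ = q ^ 1 := (pow_one q).symm
      _ ≤ q ^ m := Nat.pow_le_pow_right hq.pos C.m1
  have hAle : Nat.card A ≤ q ^ m - 1 := Nat.le_of_dvd (by omega) hAd
  have hGpos : 0 < Nat.card G := Nat.card_pos
  have hGle : q ^ n - 1 ≤ Nat.card G := Nat.le_of_dvd hGpos C.cardG
  have hn2m : q ^ (2 * m) ≤ q ^ n := by
    apply Nat.pow_le_pow_right hq.pos
    rw [C.nmk, mul_comm]
    exact Nat.mul_le_mul_left m C.k2
  have h2m : q ^ (2 * m) = q ^ m * q ^ m := by rw [two_mul, pow_add]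
  obtain ⟨b, hb⟩ : ∃ b, q ^ m = b + 1 := ⟨q ^ m - 1, by omega⟩
  rw [hb] at hAle
  rw [h2m, hb] at hn2m
  have h3 : Nat.card A ^ 2 ≤ b ^ 2 := Nat.pow_le_pow_left (by omega) 2
  have h4 : q ^ n ≤ Nat.card G + 1 := by omega
  have h5 : 1 ≤ b := by omega
  nlinarith

end ctx

section top

variable (q : ℕ) [Fact q.Prime] {V : Type u} [AddCommGroup V] [Module (ZMod q) V] [Finite V]
  [Nontrivial V] {G : Type w} [Group G] [Finite G]

/-- the final case distinction, from the three leaf cases -/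
theorem assembly
    (hcard : ∀ (ρ : G →* (V ≃ₗ[ZMod q] V)),
      (∀ v w : V, v ≠ 0 → w ≠ 0 → ∃ g : G, ρ g v = w) → Nat.card V - 1 ∣ Nat.card G)
    (hn2 : ∀ (ρ : G →* (V ≃ₗ[ZMod q] V)) (A : Subgroup G) (K : Type) [Field K] [Fintype K]
      [Module K V] (n m k : ℕ), Ctx ρ A K n m k → n = 2 → ∀ (B : Subgroup G) (s : ℕ),
      BProp A B s → Nat.card V ∈ ({9, 25, 49, 121, 529, 81} : Set ℕ))
    (h26 : ∀ (ρ : G →* (V ≃ₗ[ZMod q] V)) (A : Subgroup G) (K : Type) [Field K] [Fintype K]
      [Module K V] (n m k : ℕ), Ctx ρ A K n m k → q = 2 → n = 6 → ∀ (B : Subgroup G) (s : ℕ),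
      BProp A B s → False)
    (hsol : Group.IsSolvable G)
    (ρ : G →* (V ≃ₗ[ZMod q] V)) (hρ : Function.Injective ρ)
    (htrans : ∀ v w : V, v ≠ 0 → w ≠ 0 → ∃ g : G, ρ g v = w) :
    (∃ (F : Type) (_ : Field F) (_ : Fintype F) (e : V ≃+ F),
        ∀ g : G, ∃ (a : F) (σ : F ≃+* F), ∀ v : V, e (ρ g v) = a * σ (e v)) ∨
    Nat.card V ∈ ({9, 25, 49, 121, 529, 81} : Set ℕ) := by
  have hq : q.Prime := Fact.out
  obtain ⟨A, hAn, hAc, hAmax⟩ := exists_max_abelian_normal (G := G)
  by_cases hirr : ∃ W : Submodule (ZMod q) V, W ≠ ⊥ ∧ W ≠ ⊤ ∧ ∀ a ∈ A, ∀ v ∈ W, ρ a v ∈ W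
  swap
  · exact Or.inl (Cfsg.Agent.Lib.Helper5.GL1.gammaL1 q ρ A hAn hAc hirr)
  right
  obtain ⟨W, hWbot, hWtop, hWinv⟩ := hirr
  obtain ⟨K, iF, iFt, iM, hK1, hK2, hK3, hK4, m, hm⟩ := exists_field ρ hρ htrans A hAn hAc
  have hcardK : Fintype.card K = q ^ m := by rw [Fintype.card_eq_nat_card]; exact hm
  have hm1 : 1 ≤ m := by
    by_contra h0
    have h1 : m = 0 := by omega
    rw [h1, pow_zero] at hcardK
    have := Fintype.one_lt_card (α := K)
    omega
  have hVn : Nat.card V = q ^ Module.finrank (ZMod q) V := by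
    rw [Module.natCard_eq_pow_finrank (K := ZMod q) (V := V), Nat.card_zmod]
  have hVk : Nat.card V = (q ^ m) ^ Module.finrank K V := by
    rw [Module.natCard_eq_pow_finrank (K := K) (V := V), hm]
  have hnmk : Module.finrank (ZMod q) V = m * Module.finrank K V := by
    apply Nat.pow_right_injective hq.two_le
    show q ^ Module.finrank (ZMod q) V = q ^ (m * Module.finrank K V)
    rw [← hVn, hVk, pow_mul]
  -- `k ≥ 2`
  let W' : Submodule K V :=
    { carrier := W
      add_mem' := fun ha hb => W.add_mem ha hb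
      zero_mem' := W.zero_mem
      smul_mem' := fun c v hv => hK4 W hWinv c v hv }
  have hW'mem : ∀ v, v ∈ W' ↔ v ∈ W := fun v => Iff.rfl
  have hW'bot : W' ≠ ⊥ := by
    intro h
    apply hWbot
    rw [Submodule.eq_bot_iff] at h ⊢
    exact fun v hv => h v hv
  have hW'top : W' ≠ ⊤ := by
    intro h
    apply hWtop
    rw [Submodule.eq_top_iff'] at h ⊢
    exact fun v => h v
  have hk2 : 2 ≤ Module.finrank K V := by
    by_contra hlt
    have hle : Module.finrank K W' ≤ Module.finrank K V := Submodule.finrank_le W'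
    rcases Nat.eq_zero_or_pos (Module.finrank K W') with h0 | h0
    · exact hW'bot (Submodule.finrank_eq_zero.mp h0)
    · exact hW'top (Submodule.eq_top_of_finrank_eq (by omega))
  have hcardG : q ^ Module.finrank (ZMod q) V - 1 ∣ Nat.card G := by
    rw [← hVn]; exact hcard ρ htrans
  have C : Ctx ρ A K (Module.finrank (ZMod q) V) m (Module.finrank K V) :=
    ⟨hρ, hsol, hAn, hAc, hAmax, hK1, hK2, hK3, hcardK, rfl, rfl, hnmk, hk2, hm1, hcardG⟩
  -- the subgroup `B`
  obtain ⟨g, hgA, hgnA⟩ := C.exists_centralizing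
  haveI := hAn
  have hDn : (Subgroup.centralizer (A : Set G)).Normal := Subgroup.normal_centralizer
  have hAD : A < Subgroup.centralizer (A : Set G) := by
    refine lt_of_le_of_ne ?_ ?_
    · intro a ha
      rw [Subgroup.mem_centralizer_iff]
      intro b hb
      exact hAc b hb a ha
    · intro heq
      apply hgnA
      rw [heq, Subgroup.mem_centralizer_iff]
      intro a ha
      exact (hgA a ha).symm
  obtain ⟨B, s, hs, hBn, hAB, hBD, hexp, hcomm, hcenter⟩ :=
    exists_B hsol A hAn hAc hAmax _ hDn hAD le_rfl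
  have hB : BProp A B s := by
    refine ⟨hs, hBn, hAB, ?_, hexp, hcomm, hcenter⟩
    intro b hb a ha
    have := hBD hb
    rw [Subgroup.mem_centralizer_iff] at this
    exact (this a ha).symm
  -- cases
  generalize hn : Module.finrank (ZMod q) V = n at C hnmk
  have hn2' : 2 ≤ n := by
    rw [hnmk]
    calc 2 ≤ Module.finrank K V := hk2
      _ = 1 * Module.finrank K V := (one_mul _).symm
      _ ≤ m * Module.finrank K V := Nat.mul_le_mul_right _ hm1
  rcases Nat.lt_or_ge n 3 with hlt | hge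
  · exact hn2 ρ A K n m _ C (by omega) B s hB
  · by_cases hc : q = 2 ∧ n = 6
    · exact (h26 ρ A K n m _ C hc.1 hc.2 B s hB).elim
    · have := C.case_general hge hc hB
      rw [this]
      simp

end top

end Cfsg.Agent.S3360L
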