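import Mathlib

/-!
# S3360 (F0a): a linear group transitive on the non-zero vectors has order divisible by `|V| - 1`
-/

set_option autoImplicit false
set_option linter.unusedSectionVars false
set_option linter.unusedVariables false
set_option linter.style.haveILetI false

namespace Cfsg.Agent.S3360L

universe u w

/-- **(F0a)** -/
theorem trans_card_dvd {q : ℕ} [Fact q.Prime] {V : Type u} [AddCommGroup V] [Module (ZMod q) V]
    [Finite V] [Nontrivial V] {G : Type w} [Group G] [Finite G] (ρ : G →* (V ≃ₗ[ZMod q] V))
    (htrans : ∀ v w : V, v ≠ 0 → w ≠ 0 → ∃ g : G, ρ g v = w) : Nat.card V - 1 ∣ Nat.card G := by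
  letI : MulAction G V :=
    { smul := fun g v => ρ g v
      one_smul := fun v => by
        show ρ 1 v = v
        rw [map_one]
        rfl
      mul_smul := fun g h v => by
        show ρ (g * h) v = ρ g (ρ h v)
        rw [map_mul]
        rfl }
  have hsmul : ∀ (g : G) (v : V), g • v = ρ g v := fun g v => rfl
  obtain ⟨v₀, hv₀⟩ := exists_ne (0 : V)
  have horb : MulAction.orbit G v₀ = ({0} : Set V)ᶜ := by
    ext w
    rw [MulAction.mem_orbit_iff, Set.mem_compl_iff, Set.mem_singleton_iff]
    constructor
    · rintro ⟨g, rfl⟩ h0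
      rw [hsmul] at h0
      have h1 : ρ g v₀ = ρ g 0 := by rw [h0, map_zero]
      exact hv₀ ((ρ g).injective h1)
    · intro hw
      obtain ⟨g, hg⟩ := htrans v₀ w hv₀ hw
      exact ⟨g, hg⟩
  have h1 := MulAction.index_stabilizer G v₀
  rw [horb, Set.ncard_compl, Set.ncard_singleton] at h1
  rw [← h1]
  exact Subgroup.index_dvd_card _

end Cfsg.Agent.S3360L
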